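import Cfsg.Agent.Lib.ZJ.Control
import Cfsg.Agent.Lib.PSolvable.HallHigman
import Cfsg.Agent.Lib.Transfer.PResidual
import Cfsg.Agent.Lib.Balance.PLayer

/-!
# The ZJ-theorem for `p`-constrained `p`-stable groups

`IsPStable p G` gives `p`-stable action of `G ⧸ O_{p'}(G)` on all its normal `p`-subgroups, so
`G = O_{p'}(G) N(Z(J(P)))` if `G` is `p`-constrained too.
-/

set_option autoImplicit false

namespace Cfsg.Agent.Lib.ZJ

open Subgroup Cfsg.Agent.Lib.Transfer.PResidual Cfsg.Agent.Lib.ConjFunctor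
open scoped commutatorElement

universe u

variable {G : Type*} [Group G]

theorem conj_pow_eq {e b v : G} (hv : v = b⁻¹ * (e * b * e⁻¹)) (hve : v * e = e * v) (n : ℕ) :
    e ^ n * b * (e ^ n)⁻¹ = b * v ^ n := by
  induction n with
  | zero => simp
  | succ i ih =>
    calc e ^ (i + 1) * b * (e ^ (i + 1))⁻¹ = e * (e ^ i * b * (e ^ i)⁻¹) * e⁻¹ := by
          rw [pow_succ']; group
      _ = (e * b) * (v ^ i * e⁻¹) := by rw [ih]; group
      _ = (e * b) * (e⁻¹ * v ^ i) := by rw [((Commute.pow_left hve i).inv_right).eq]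
      _ = b * v * v ^ i := by rw [hv]; group
      _ = b * v ^ (i + 1) := by rw [pow_succ', mul_assoc]

variable [Finite G] {p : ℕ} [hp : Fact p.Prime]

/-- A quadratic element acts as a `p`-element on a normal `p`-subgroup. -/
theorem exists_pow_mem_centralizer {V : Subgroup G} [V.Normal] (hV : IsPGroup p V) {a : G}
    (ha : ⁅⁅V, zpowers a⁆, zpowers a⁆ = ⊥) : ∃ k : ℕ, a ^ (p ^ k) ∈ centralizer (V : Set G) := by
  obtain ⟨k, hk⟩ := IsPGroup.iff_card.1 hV
  refine ⟨k, fun b hb => ?_⟩
  set v := b⁻¹ * (a * b * a⁻¹) with hv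
  have hvV : v ∈ V := mul_mem (inv_mem hb) (Subgroup.Normal.conj_mem inferInstance b hb a)
  have hva : v * a = a * v := by
    have h1 : v ∈ ⁅V, zpowers a⁆ := by
      have := Subgroup.commutator_mem_commutator (H₂ := zpowers a) (inv_mem hb) (mem_zpowers a)
      rw [commutatorElement_def, inv_inv] at this
      rw [hv]
      simpa [mul_assoc] using this
    have h2 := Subgroup.commutator_mem_commutator h1 (mem_zpowers a)
    rw [ha, Subgroup.mem_bot, commutatorElement_eq_one_iff_mul_comm] at h2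
    exact h2
  have h := conj_pow_eq hv hva (p ^ k)
  have hvk : v ^ (p ^ k) = 1 := by
    rw [← hk]
    exact orderOf_dvd_iff_pow_eq_one.1 (Subgroup.orderOf_dvd_natCard V hvV)
  rw [hvk, mul_one] at h
  calc b * a ^ p ^ k = a ^ p ^ k * b * (a ^ p ^ k)⁻¹ * a ^ p ^ k := by rw [h]
    _ = a ^ p ^ k * b := by group

/-- `p`-stability of `G` makes `G ⧸ O_{p'}(G)` act `p`-stably on its normal `p`-subgroups. -/
theorem isPStableOn_quotient (hs : Cfsg.IsPStable p G)
    (V : Subgroup (G ⧸ Cfsg.pPrimeCore p G)) [V.Normal] (hV : IsPGroup p V) :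
    Cfsg.IsPStableOn p V := by
  intro a' ha'
  obtain ⟨g, hg⟩ := QuotientGroup.mk_surjective a'
  rw [← hg] at ha' ⊢
  set M := Cfsg.pPrimeCore p G with hM
  set f := QuotientGroup.mk' M
  have hfs : Function.Surjective f := QuotientGroup.mk'_surjective M
  set CV := centralizer (V : Set (G ⧸ M)) with hCV
  obtain ⟨a, b, haz, hbz, hab, hcomm, ⟨i, hai⟩, hbp⟩ :=
    exists_pPart_mul_pPrimePart (p := p) g (isOfFinOrder_of_finite g)
  -- the `p'`-part acts trivially
  obtain ⟨k, hk⟩ := exists_pow_mem_centralizer hV ha'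
  set q := (QuotientGroup.mk' CV).comp f with hq
  have hqb : q b = 1 := by
    have h1 : q g ^ p ^ k = 1 := by
      rw [← map_pow]
      show (QuotientGroup.mk' CV) (f (g ^ p ^ k)) = 1
      rw [map_pow]
      exact (QuotientGroup.eq_one_iff _).2 hk
    obtain ⟨j, hj⟩ := hbz
    have h2 : q b ^ p ^ k = 1 := by
      rw [← hj]
      simp only [map_zpow]
      rw [← zpow_natCast, ← zpow_mul, mul_comm, zpow_mul, zpow_natCast, h1, one_zpow]
    refine orderOf_eq_one_iff.1 (Nat.eq_one_of_dvd_coprimes (k := orderOf (q b))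
      (hbp.pow_right k) (orderOf_map_dvd q b) (orderOf_dvd_of_pow_eq_one h2))
  have hqa : q g = q a := by rw [← hab, map_mul, hqb, mul_one]
  show q g ∈ Cfsg.pCore p _
  rw [hqa]
  -- a `p`-group lifting `V`, normalised by `a`
  have haA : IsPGroup p (zpowers a) := IsPGroup.iff_card.2 (by
    obtain ⟨n, -, hn⟩ := (Nat.dvd_prime_pow hp.out).1 (orderOf_dvd_of_pow_eq_one hai)
    exact ⟨n, (Nat.card_zpowers a).trans hn⟩)
  obtain ⟨S, hS⟩ := haA.exists_le_sylow
  set U := V.comap f with hU
  have hMU : M ≤ U := fun x hx => by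
    show f x ∈ V
    rw [show f x = 1 from (QuotientGroup.eq_one_iff x).2 hx]
    exact one_mem V
  set P := (S : Subgroup G) ⊓ U with hP
  have hPp : IsPGroup p P := S.2.to_le inf_le_left
  have hUj : ∀ x ∈ U, ∃ j : ℕ, x ^ p ^ j ∈ M := fun x hx => by
    obtain ⟨j, hj⟩ := hV ⟨f x, hx⟩
    refine ⟨j, (QuotientGroup.eq_one_iff _).1 ?_⟩
    have h0 : f x ^ p ^ j = 1 := congrArg Subtype.val hj
    rw [← map_pow] at h0
    exact h0
  have hsup : M ⊔ P = U := by
    refine le_antisymm (sup_le hMU inf_le_right) ?_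
    intro x hx
    obtain ⟨T, hT⟩ := CharP.exists_sylow_inf S (C := U) (by
      rw [Subgroup.normalizer_eq_top]; exact le_top)
    have : (M.subgroupOf U ⊔ (T : Subgroup U)) = ⊤ := by
      rw [← Subgroup.index_eq_one]
      have h1 : (M.subgroupOf U ⊔ (T : Subgroup U)).index ∣ (T : Subgroup U).index :=
        Subgroup.index_dvd_of_le le_sup_right
      have h2 : (M.subgroupOf U ⊔ (T : Subgroup U)).index ∣ (M.subgroupOf U).index :=
        Subgroup.index_dvd_of_le le_sup_left
      have hqp : IsPGroup p (↥U ⧸ M.subgroupOf U) := fun z => by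
        induction z using QuotientGroup.induction_on with
        | _ m =>
          obtain ⟨j, hj⟩ := hUj m m.2
          refine ⟨j, ?_⟩
          rw [← QuotientGroup.mk_pow, QuotientGroup.eq_one_iff, Subgroup.mem_subgroupOf]
          simpa using hj
      obtain ⟨n, hn⟩ := IsPGroup.iff_card.1 hqp
      obtain ⟨n', -, hn'⟩ := (Nat.dvd_prime_pow hp.out).1 (h2.trans (dvd_of_eq hn))
      rcases Nat.eq_zero_or_pos n' with h0 | h0
      · rw [hn', h0, pow_zero]
      · exact absurd ((dvd_pow_self p h0.ne').trans ((dvd_of_eq hn'.symm).trans h1)) T.not_dvd_index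
    have h3 := congrArg (Subgroup.map U.subtype) this
    rw [Subgroup.map_sup, hT, Subgroup.map_subgroupOf_eq_of_le hMU,
      Subgroup.map_subgroupOf_eq_of_le inf_le_right, ← MonoidHom.range_eq_map,
      Subgroup.range_subtype] at h3
    exact h3.ge hx
  have hPV : P.map f = V := by
    have h4 : (M ⊔ P).map f = V := by
      rw [hsup, hU, Subgroup.map_comap_eq_self_of_surjective hfs]
    rwa [Subgroup.map_sup, QuotientGroup.map_mk'_self, bot_sup_eq] at h4
  have hnorm : ∀ x ∈ zpowers a, ∀ y ∈ P, x * y * x⁻¹ ∈ P := fun x hx y hy =>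
    ⟨(S : Subgroup G).mul_mem ((S : Subgroup G).mul_mem (hS hx) hy.1)
      ((S : Subgroup G).inv_mem (hS hx)),
      Subgroup.Normal.conj_mem inferInstance y hy.2 x⟩
  have hquad : ⁅⁅P, zpowers a⁆, zpowers a⁆ = ⊥ := by
    have hPA : ⁅P, zpowers a⁆ ≤ P := Subgroup.commutator_le.2 fun y hy x hx => by
      rw [commutatorElement_def, mul_assoc y, mul_assoc y]
      exact mul_mem hy (hnorm x hx _ (inv_mem hy))
    have hPA2 : ⁅⁅P, zpowers a⁆, zpowers a⁆ ≤ P := (Subgroup.commutator_mono hPA le_rfl).trans hPA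
    have h1 : (⁅⁅P, zpowers a⁆, zpowers a⁆).map f ≤ ⊥ := by
      rw [Subgroup.map_commutator, Subgroup.map_commutator, hPV, MonoidHom.map_zpowers, ← ha']
      have h5 : zpowers (f a) ≤ zpowers (f g) := by
        rw [zpowers_le, ← MonoidHom.map_zpowers]
        exact ⟨a, haz, rfl⟩
      exact Subgroup.commutator_mono (Subgroup.commutator_mono le_rfl h5) h5
    rw [le_bot_iff, Subgroup.map_eq_bot_iff, QuotientGroup.ker_mk'] at h1
    exact le_bot_iff.1 ((le_inf hPA2 h1).trans
      (disjoint_iff.1 (disjoint_of_not_dvd (Cores.not_dvd_card_pPrimeCore p) hPp).symm).le)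
  have hle : P ≤ Cfsg.pPrimePCore p G := fun x hx => by
    rw [Cfsg.pPrimePCore, Subgroup.mem_comap]
    exact Cores.le_pCore hV (hPV.le ⟨x, hx, rfl⟩)
  have key := hs.2.2 (zpowers a) P haA hPp hnorm hle
    (by rw [hsup]; infer_instance) hquad
  -- push forward
  set N := normalizer (P : Set G) with hN
  have haN : a ∈ N := by
    refine (zpowers_le.1 ((le_inf (hS.trans le_normalizer) ?_).trans inf_normalizer_le_normalizer_inf))
    rw [Subgroup.normalizer_eq_top]; exact le_top
  set CP := (centralizer (P : Set G)).subgroupOf N with hCP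
  have hker : CP ≤ (q.comp N.subtype).ker := by
    intro x hx
    rw [MonoidHom.mem_ker]
    show QuotientGroup.mk' CV (f x) = 1
    refine (QuotientGroup.eq_one_iff _).2 ?_
    intro v hv
    obtain ⟨y, hy, rfl⟩ := hPV.ge hv
    have hxy : y * (x : G) = x * y := Subgroup.mem_centralizer_iff.1 hx y hy
    rw [← map_mul, ← map_mul, hxy]
  set φ := QuotientGroup.lift CP (q.comp N.subtype) hker
  have hφ : Function.Surjective φ := by
    intro z
    obtain ⟨w, rfl⟩ := (QuotientGroup.mk'_surjective CV).comp hfs z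
    obtain ⟨c, hc, n, hn, rfl⟩ := exists_frattini S hMU hUj w
    refine ⟨QuotientGroup.mk ⟨n, hn⟩, ?_⟩
    show QuotientGroup.mk' CV (f n) = QuotientGroup.mk' CV (f (c * n))
    rw [map_mul, show f c = 1 from (QuotientGroup.eq_one_iff c).2 hc, one_mul]
  refine Cores.map_pCore_le φ hφ ⟨QuotientGroup.mk' CP ⟨a, haN⟩, key ⟨⟨a, haN⟩, ?_, rfl⟩, rfl⟩
  show a ∈ zpowers a
  exact mem_zpowers a

/-- Glauberman's ZJ-theorem for `p`-constrained `p`-stable groups, abelian Thompson subgroup. -/
theorem sup_normalizer_centerThompsonAOf {G : Type u} [Group G] [Finite G] (hp2 : p ≠ 2)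
    (hc : Cfsg.IsPConstrained p G) (hs : Cfsg.IsPStable p G) (P : Sylow p G) :
    Cfsg.pPrimeCore p G ⊔ normalizer (Cfsg.centerThompsonAOf (P : Subgroup G) : Set G) = ⊤ := by
  set M := Cfsg.pPrimeCore p G with hMdef
  set f := QuotientGroup.mk' M
  have hfs : Function.Surjective f := QuotientGroup.mk'_surjective M
  have hW := isCharPFunctor_zjA (p := p)
  have hM : ¬ p ∣ Nat.card M := Cores.not_dvd_card_pPrimeCore p
  have hinj : (P : Subgroup G) ⊓ f.ker = ⊥ := by
    rw [QuotientGroup.ker_mk', eq_bot_iff]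
    intro x hx
    exact Subgroup.mem_bot.mpr
      (Subgroup.disjoint_def.mp (disjoint_of_not_dvd hM P.2) hx.2 hx.1)
  have hn := centerThompsonAOf_normal hp2 (PSolvable.isPConstrained_iff.1 hc)
    (fun V _ hV => isPStableOn_quotient hs V hV) (P.mapSurjective hfs)
  rw [Sylow.coe_mapSurjective, ← inducedFunctor_zjA, Section.map_inducedFunctor hW f _ P.2 hinj,
    inducedFunctor_zjA] at hn
  have h1 := Balance.map_normalizer_eq hfs (by rwa [QuotientGroup.ker_mk'])
    (P.2.to_le (centerThompsonAOf_le (P : Subgroup G)))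
  rw [Subgroup.normalizer_eq_top_iff.2 hn] at h1
  rw [sup_comm, eq_top_iff]
  intro x _
  have hx : f x ∈ (normalizer (Cfsg.centerThompsonAOf (P : Subgroup G) : Set G)).map f := by
    rw [h1]; exact mem_top _
  rw [← Subgroup.mem_comap, Subgroup.comap_map_eq, QuotientGroup.ker_mk'] at hx
  exact hx

theorem centerThompsonAOf_normal_of_pPrimeCore_eq_bot {G : Type u} [Group G] [Finite G]
    (hp2 : p ≠ 2) (hc : Cfsg.IsPConstrained p G) (hs : Cfsg.IsPStable p G)
    (hO : Cfsg.pPrimeCore p G = ⊥) (P : Sylow p G) :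
    (Cfsg.centerThompsonAOf (P : Subgroup G)).Normal := by
  rw [← Subgroup.normalizer_eq_top_iff]
  simpa [hO] using sup_normalizer_centerThompsonAOf hp2 hc hs P

end Cfsg.Agent.Lib.ZJ
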