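import Cfsg.Agent.Lib.ZJ.Stable
import Cfsg.Agent.Lib.PGroups.Omega
import Cfsg.Agent.Lib.PLocal.PStable

/-!
# Groups without an `SL(2,p)` section act `p`-stably on all their normal `p`-subgroups
-/

set_option autoImplicit false

namespace Cfsg.Agent.Lib.ZJ

open Subgroup Cfsg.Agent.Lib.PGroups
open scoped commutatorElement

universe u

theorem isPStableOn_of_noSLTwo {G : Type u} [Group G] [Finite G] {p : ℕ} [hp : Fact p.Prime]
    (hp2 : p ≠ 2) (hG : PLocal.NoSLTwo p G) (P : Subgroup G) [P.Normal] (hP : IsPGroup p P) :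
    Cfsg.IsPStableOn p P := by
  induction hn : Nat.card G using Nat.strong_induction_on generalizing G with
  | _ m ih =>
  subst hn
  intro a ha
  rcases eq_or_ne P ⊥ with hP0 | hP0
  · have : (QuotientGroup.mk a : G ⧸ centralizer (P : Set G)) = 1 := by
      rw [QuotientGroup.eq_one_iff]
      intro x hx
      rw [hP0, SetLike.mem_coe, Subgroup.mem_bot] at hx
      rw [hx, one_mul, mul_one]
    rw [this]
    exact one_mem _
  set Z := P ⊓ centralizer (P : Set G) with hZ
  have : Z.Normal := Subgroup.normal_inf_normal P _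
  set K := Cfsg.omegaOne p Z with hK
  have hKn : K.Normal := omegaOne_normal
  have hZc : IsMulCommutative Z := Subgroup.le_centralizer_iff_isMulCommutative.mp
    (inf_le_right.trans (centralizer_le inf_le_left))
  have hKel : Cfsg.IsElementaryAbelian p K := elemAb_omegaOne hZc
  have hKP : K ≤ P := (omegaOne_le p Z).trans inf_le_left
  have hK0 : K ≠ ⊥ := by
    refine omegaOne_ne_bot (hP.to_le inf_le_left) fun h => ?_
    have : Nontrivial P := (Subgroup.nontrivial_iff_ne_bot P).2 hP0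
    have := hP.center_nontrivial
    obtain ⟨⟨z, hz⟩, hz1⟩ := exists_ne (1 : Subgroup.center P)
    refine hz1 (Subtype.ext (Subtype.ext ?_))
    have : (z : G) ∈ Z := ⟨z.2, fun x hx =>
      congrArg Subtype.val (Subgroup.mem_center_iff.1 hz ⟨x, hx⟩)⟩
    rw [h, Subgroup.mem_bot] at this
    simpa using this
  have hlt : Nat.card (G ⧸ K) < Nat.card G := by
    rw [Subgroup.card_eq_card_quotient_mul_card_subgroup K]
    exact lt_mul_of_one_lt_right Nat.card_pos ((Subgroup.one_lt_card_iff_ne_bot K).2 hK0)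
  set π := QuotientGroup.mk' K with hπ
  have hπs := QuotientGroup.mk'_surjective K
  have : (P.map π).Normal := Subgroup.Normal.map inferInstance π hπs
  obtain ⟨D₁, hD₁n, hCD₁, hD₁j, hD₁a⟩ := exists_stable_sup
    (ih _ hlt (PLocal.noSLTwo_of_surjective hG π hπs) (P.map π) (hP.map π) rfl)
  obtain ⟨D₂, hD₂n, hCD₂, hD₂j, hD₂a⟩ :=
    exists_stable_sup (PLocal.isPStableOn_of_noSLTwo hp2 hG K hKel)
  set C := centralizer (P : Set G) with hC
  set D := D₁.comap π ⊓ D₂ with hD
  have hDn : D.Normal := Subgroup.normal_inf_normal _ _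
  have haD : a ∈ D := by
    refine ⟨hD₁a (π a) ?_, hD₂a a ?_⟩
    · rw [← MonoidHom.map_zpowers, ← Subgroup.map_commutator, ← Subgroup.map_commutator, ha,
        Subgroup.map_bot]
    · rw [eq_bot_iff, ← ha]
      exact Subgroup.commutator_mono (Subgroup.commutator_mono hKP le_rfl) le_rfl
  have hDj : ∀ x ∈ D, ∃ j : ℕ, x ^ (p ^ j) ∈ C := by
    intro x hx
    obtain ⟨i, hi⟩ := hD₁j (π x) hx.1
    obtain ⟨j, hj⟩ := hD₂j x hx.2
    set e := x ^ (p ^ (i + j)) with he
    have he2 : e ∈ centralizer (K : Set G) := by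
      rw [he, pow_add, mul_comm, pow_mul]; exact pow_mem hj _
    have he1 : ∀ b ∈ P, b⁻¹ * (e * b * e⁻¹) ∈ K := by
      intro b hb
      refine (QuotientGroup.eq_one_iff (N := K) _).1 ?_
      have h1 : π e ∈ centralizer ((P.map π : Subgroup (G ⧸ K)) : Set (G ⧸ K)) := by
        rw [he, map_pow, pow_add, pow_mul]; exact pow_mem hi _
      have h2 : π b * π e = π e * π b := Subgroup.mem_centralizer_iff.1 h1 _ ⟨b, hb, rfl⟩
      change π (b⁻¹ * (e * b * e⁻¹)) = 1
      rw [map_mul, map_mul, map_mul, map_inv, map_inv, ← h2, mul_inv_cancel_right, inv_mul_cancel]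
    refine ⟨i + j + 1, ?_⟩
    rw [pow_succ, pow_mul, ← he]
    intro b hb
    set v := b⁻¹ * (e * b * e⁻¹) with hv
    have hve : v * e = e * v := Subgroup.mem_centralizer_iff.1 he2 v (he1 b hb)
    have hstep : ∀ i : ℕ, e ^ i * b * (e ^ i)⁻¹ = b * v ^ i := by
      intro i
      induction i with
      | zero => simp
      | succ i ih =>
        calc e ^ (i + 1) * b * (e ^ (i + 1))⁻¹ = e * (e ^ i * b * (e ^ i)⁻¹) * e⁻¹ := by
              rw [pow_succ']; group
          _ = (e * b) * (v ^ i * e⁻¹) := by rw [ih]; group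
          _ = (e * b) * (e⁻¹ * v ^ i) := by rw [((Commute.pow_left hve i).inv_right).eq]
          _ = b * v * v ^ i := by rw [hv]; group
          _ = b * v ^ (i + 1) := by rw [pow_succ', mul_assoc]
    have h1 := hstep p
    rw [elemAb_pow hKel (he1 b hb), mul_one] at h1
    calc b * e ^ p = e ^ p * b * (e ^ p)⁻¹ * e ^ p := by rw [h1]
      _ = e ^ p * b := by group
  have hDp : IsPGroup p (D.map (QuotientGroup.mk' C)) := by
    rintro ⟨_, x, hx, rfl⟩
    obtain ⟨j, hj⟩ := hDj x hx
    refine ⟨j, Subtype.ext ?_⟩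
    rw [SubmonoidClass.coe_pow, ← map_pow]
    exact (QuotientGroup.eq_one_iff _).2 hj
  have : (D.map (QuotientGroup.mk' C)).Normal :=
    Subgroup.Normal.map hDn _ (QuotientGroup.mk'_surjective C)
  exact Cores.le_pCore hDp ⟨a, haD, rfl⟩

/-- The ZJ hypothesis in groups without an `SL(2,p)` section. -/
theorem stable_of_noSLTwo {G : Type u} [Group G] [Finite G] {p : ℕ} [Fact p.Prime] (hp2 : p ≠ 2)
    (hG : PLocal.NoSLTwo p G) :
    ∀ (P : Subgroup G) [P.Normal], IsPGroup p P → Cfsg.IsPStableOn p P :=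
  fun P _ hP => isPStableOn_of_noSLTwo hp2 hG P hP

end Cfsg.Agent.Lib.ZJ
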