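import Mathlib.GroupTheory.Sylow
import Cfsg.Prelude.Def_PLocal
import Cfsg.Agent.Lib.PGroups.Thompson

/-!
# The Thompson subgroup generated by abelian subgroups of largest order
-/

set_option autoImplicit false

namespace Cfsg.Agent.Lib.ZJ

open Subgroup Cfsg.Agent.Lib.PGroups

variable {G H : Type*} [Group G] [Group H] {P Q : Subgroup G}

/-- The abelian subgroups of largest order below `P`, as subgroups of the ambient group. -/
def maxAbIn (P : Subgroup G) : Set (Subgroup G) :=
  {A | A ≤ P ∧ IsMulCommutative A ∧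
    ∀ B : Subgroup G, B ≤ P → IsMulCommutative B → Nat.card B ≤ Nat.card A}

theorem comm_of_mulComm {A : Subgroup G} (h : IsMulCommutative A) {x y : G} (hx : x ∈ A)
    (hy : y ∈ A) : x * y = y * x :=
  congrArg Subtype.val (h.is_comm.comm ⟨x, hx⟩ ⟨y, hy⟩)

theorem mulComm_of_comm {A : Subgroup G} (h : ∀ x ∈ A, ∀ y ∈ A, x * y = y * x) :
    IsMulCommutative A :=
  ⟨⟨fun x y => Subtype.ext (h x x.2 y y.2)⟩⟩

theorem mulComm_map (f : G →* H) {A : Subgroup G} (h : IsMulCommutative A) :
    IsMulCommutative (A.map f) :=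
  mulComm_of_comm (by
    rintro _ ⟨x, hx, rfl⟩ _ ⟨y, hy, rfl⟩
    rw [← map_mul, ← map_mul, comm_of_mulComm h hx hy])

theorem mulComm_comap (f : G →* H) (hf : Function.Injective f) {A : Subgroup H}
    (h : IsMulCommutative A) : IsMulCommutative (A.comap f) :=
  mulComm_of_comm fun x hx y hy => hf (by
    rw [map_mul, map_mul]; exact comm_of_mulComm h hx hy)

theorem maxAbIn_eq_image (P : Subgroup G) :
    maxAbIn P = (Subgroup.map P.subtype) '' Cfsg.maxAbelianSubgroups P := by
  ext A
  constructor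
  · rintro ⟨hAP, hA, hmax⟩
    refine ⟨A.subgroupOf P, ⟨mulComm_comap _ P.subtype_injective hA, fun B hB => ?_⟩,
      Subgroup.map_subgroupOf_eq_of_le hAP⟩
    have h := hmax _ (Subgroup.map_subtype_le B) (mulComm_map P.subtype hB)
    rwa [Subgroup.card_map_of_injective P.subtype_injective,
      ← Subgroup.map_subgroupOf_eq_of_le hAP,
      Subgroup.card_map_of_injective P.subtype_injective] at h
  · rintro ⟨A', ⟨hA, hmax⟩, rfl⟩
    refine ⟨Subgroup.map_subtype_le A', mulComm_map P.subtype hA, fun B hBP hB => ?_⟩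
    rw [← Subgroup.map_subgroupOf_eq_of_le hBP,
      Subgroup.card_map_of_injective P.subtype_injective,
      Subgroup.card_map_of_injective P.subtype_injective]
    exact hmax _ (mulComm_comap _ P.subtype_injective hB)

theorem thompsonSubgroupAOf_eq (P : Subgroup G) :
    Cfsg.thompsonSubgroupAOf P = sSup (maxAbIn P) := by
  rw [maxAbIn_eq_image, sSup_image, Cfsg.thompsonSubgroupAOf, Cfsg.thompsonSubgroupA,
    (Subgroup.gc_map_comap P.subtype).l_sSup]

theorem maxAbIn_nonempty [Finite G] (P : Subgroup G) : (maxAbIn P).Nonempty := by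
  obtain ⟨A, ⟨hAP, hA⟩, hmax⟩ :=
    Set.exists_max_image {A : Subgroup G | A ≤ P ∧ IsMulCommutative A}
      (fun A => Nat.card A) (Set.toFinite _)
      ⟨⊥, bot_le, mulComm_of_comm fun x hx y hy => by
        rw [Subgroup.mem_bot.1 hx, Subgroup.mem_bot.1 hy]⟩
  exact ⟨A, hAP, hA, fun B h1 h2 => hmax B ⟨h1, h2⟩⟩

theorem le_thompsonSubgroupAOf {A : Subgroup G} (hA : A ∈ maxAbIn P) :
    A ≤ Cfsg.thompsonSubgroupAOf P :=
  (thompsonSubgroupAOf_eq P).symm ▸ le_sSup hA

theorem thompsonSubgroupAOf_le (P : Subgroup G) : Cfsg.thompsonSubgroupAOf P ≤ P :=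
  Subgroup.map_subtype_le _

theorem centerThompsonAOf_le (P : Subgroup G) : Cfsg.centerThompsonAOf P ≤ P :=
  inf_le_left.trans (thompsonSubgroupAOf_le P)

theorem centerA_comm {x y : G} (hx : x ∈ Cfsg.centerThompsonAOf P)
    (hy : y ∈ Cfsg.thompsonSubgroupAOf P) : y * x = x * y :=
  Subgroup.mem_centralizer_iff.1 hx.2 y hy

theorem map_maxAbIn (f : G →* H) (hf : Function.Injective f) (P : Subgroup G) :
    maxAbIn (P.map f) = (Subgroup.map f) '' maxAbIn P := by
  ext A
  constructor
  · rintro ⟨hAP, hA, hmax⟩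
    have hA' : (A.comap f).map f = A :=
      Subgroup.map_comap_eq_self (hAP.trans (Subgroup.map_le_range f P))
    refine ⟨A.comap f, ⟨fun x hx => ?_, mulComm_comap f hf hA, fun B hBP hB => ?_⟩, hA'⟩
    · obtain ⟨y, hy, hyx⟩ := hAP hx
      exact hf hyx ▸ hy
    · have h := hmax _ (Subgroup.map_mono hBP) (mulComm_map f hB)
      rw [← hA'] at h
      rwa [Subgroup.card_map_of_injective hf, Subgroup.card_map_of_injective hf] at h
  · rintro ⟨A', ⟨hAP, hA, hmax⟩, rfl⟩
    refine ⟨Subgroup.map_mono hAP, mulComm_map f hA, fun B hBP hB => ?_⟩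
    have hB' : (B.comap f).map f = B :=
      Subgroup.map_comap_eq_self (hBP.trans (Subgroup.map_le_range f P))
    have h := hmax (B.comap f) (fun x hx => ?_) (mulComm_comap f hf hB)
    · rw [← hB', Subgroup.card_map_of_injective hf, Subgroup.card_map_of_injective hf]
      exact h
    · obtain ⟨y, hy, hyx⟩ := hBP hx
      exact hf hyx ▸ hy

theorem map_thompsonSubgroupAOf (f : G →* H) (hf : Function.Injective f) (P : Subgroup G) :
    (Cfsg.thompsonSubgroupAOf P).map f = Cfsg.thompsonSubgroupAOf (P.map f) := by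
  rw [thompsonSubgroupAOf_eq, thompsonSubgroupAOf_eq, map_maxAbIn f hf, sSup_image,
    (Subgroup.gc_map_comap f).l_sSup]

theorem map_centerThompsonAOf (f : G →* H) (hf : Function.Injective f) (P : Subgroup G) :
    (Cfsg.centerThompsonAOf P).map f = Cfsg.centerThompsonAOf (P.map f) := by
  rw [Cfsg.centerThompsonAOf, Cfsg.centerThompsonAOf, map_inf_centralizer_of_injective f hf,
    map_thompsonSubgroupAOf f hf]

theorem normalizer_le_normalizer_thompsonA (P : Subgroup G) :
    normalizer (P : Set G) ≤ normalizer (Cfsg.thompsonSubgroupAOf P : Set G) := fun g hg =>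
  mem_normalizer_of_map_conj_eq (by
    rw [map_thompsonSubgroupAOf _ (MulAut.conj g).injective, map_conj_eq_of_mem_normalizer hg])

theorem normalizer_le_normalizer_centerThompsonA (P : Subgroup G) :
    normalizer (P : Set G) ≤ normalizer (Cfsg.centerThompsonAOf P : Set G) := fun g hg =>
  mem_normalizer_of_map_conj_eq (by
    rw [map_centerThompsonAOf _ (MulAut.conj g).injective, map_conj_eq_of_mem_normalizer hg])

theorem normalizer_thompsonA_le_normalizer_centerThompsonA (P : Subgroup G) :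
    normalizer (Cfsg.thompsonSubgroupAOf P : Set G) ≤
      normalizer (Cfsg.centerThompsonAOf P : Set G) := fun g hg =>
  mem_normalizer_of_map_conj_eq (by
    rw [Cfsg.centerThompsonAOf, map_inf_centralizer_of_injective _ (MulAut.conj g).injective,
      map_conj_eq_of_mem_normalizer hg])

/-- If one member of largest order in `P` lies in `Q ≤ P`, the families are nested. -/
theorem maxAbIn_mono (hQP : Q ≤ P) {A : Subgroup G} (hA : A ∈ maxAbIn P) (hAQ : A ≤ Q) :
    maxAbIn Q ⊆ maxAbIn P := by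
  rintro B ⟨hBQ, hB, hmax⟩
  exact ⟨hBQ.trans hQP, hB, fun C hC hC' => (hA.2.2 C hC hC').trans (hmax A hAQ hA.2.1)⟩

theorem thompsonSubgroupAOf_mono (hQP : Q ≤ P) {A : Subgroup G} (hA : A ∈ maxAbIn P)
    (hAQ : A ≤ Q) : Cfsg.thompsonSubgroupAOf Q ≤ Cfsg.thompsonSubgroupAOf P := by
  rw [thompsonSubgroupAOf_eq, thompsonSubgroupAOf_eq]
  exact sSup_le_sSup (maxAbIn_mono hQP hA hAQ)

/-- An element of `P` commuting with a member of largest order lies in it. -/
theorem mem_of_maxAbIn [Finite G] {A : Subgroup G} (hA : A ∈ maxAbIn P) {x : G} (hxP : x ∈ P)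
    (hc : ∀ a ∈ A, a * x = x * a) : x ∈ A := by
  have hle : Subgroup.closure ((A : Set G) ∪ {x}) ≤ P :=
    (Subgroup.closure_le _).2 (Set.union_subset hA.1 (Set.singleton_subset_iff.2 hxP))
  have hcc : IsMulCommutative (Subgroup.closure ((A : Set G) ∪ {x})) :=
    Subgroup.isMulCommutative_closure fun a ha b hb => by
      rcases ha with ha | ha <;> rcases hb with hb | hb
      · exact comm_of_mulComm hA.2.1 ha hb
      · rw [Set.mem_singleton_iff.1 hb]; exact hc a ha
      · rw [Set.mem_singleton_iff.1 ha]; exact (hc b hb).symm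
      · rw [Set.mem_singleton_iff.1 ha, Set.mem_singleton_iff.1 hb]
  have := Subgroup.eq_of_le_of_card_ge
    ((Set.subset_union_left).trans Subgroup.subset_closure : A ≤ _) (hA.2.2 _ hle hcc)
  exact this.ge (Subgroup.subset_closure (.inr rfl))

theorem mem_of_centerA [Finite G] {A : Subgroup G} (hA : A ∈ maxAbIn P) {x : G}
    (hx : x ∈ Cfsg.centerThompsonAOf P) : x ∈ A :=
  mem_of_maxAbIn hA (centerThompsonAOf_le P hx) fun _ ha => centerA_comm hx (le_thompsonSubgroupAOf hA ha)

end Cfsg.Agent.Lib.ZJ
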