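import Cfsg.Agent.Lib.ZJ.Stable
import Cfsg.Agent.Lib.ZJ.AbelianJ

/-!
# The ZJ-theorem for the abelian Thompson subgroup

For odd `p`, a group with `C(O_p) ≤ O_p` acting `p`-stably on its normal `p`-subgroups has
`Z(J(S))` normal, `J(S)` generated by the abelian subgroups of largest order.
-/

set_option autoImplicit false

namespace Cfsg.Agent.Lib.ZJ

open Subgroup Cfsg.Agent.Lib.PGroups
open scoped commutatorElement

variable {G : Type*} [Group G] [Finite G] {p : ℕ} [hp : Fact p.Prime]

theorem inf_centerA_normal (hp2 : p ≠ 2)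
    (hst : ∀ (P : Subgroup G) [P.Normal], IsPGroup p P → Cfsg.IsPStableOn p P) (S : Sylow p G)
    (B : Subgroup G) [B.Normal] (hB : IsPGroup p B) :
    (B ⊓ Cfsg.centerThompsonAOf (S : Subgroup G)).Normal := by
  induction hn : Nat.card B using Nat.strong_induction_on generalizing B with
  | _ m ih =>
  subst hn
  set Z := Cfsg.centerThompsonAOf (S : Subgroup G) with hZ
  set X := B ⊓ Z with hX
  have IH : ∀ B' : Subgroup G, B'.Normal → B' < B → (B' ⊓ Z).Normal := fun B' hn hlt => by
    have := hn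
    refine ih _ ?_ B' (hB.to_le hlt.le) rfl
    exact (Subgroup.card_le_of_le hlt.le).lt_of_ne
      fun e => hlt.ne (Subgroup.eq_of_le_of_card_ge hlt.le e.ge)
  have hBS : B ≤ S := (Cores.le_pCore hB).trans (Cores.pCore_le_sylow S)
  have hB1le : normalClosure (X : Set G) ≤ B := normalClosure_le_normal fun x hx => hx.1
  rcases eq_or_ne (normalClosure (X : Set G)) B with hgen | hne
  swap
  · have hlt := lt_of_le_of_ne hB1le hne
    have : X = normalClosure (X : Set G) ⊓ Z :=
      le_antisymm (le_inf subset_normalClosure inf_le_right) (inf_le_inf_right _ hB1le)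
    rw [this]
    exact IH _ inferInstance hlt
  rcases eq_or_ne B ⊥ with hB0 | hB0
  · have : X = ⊥ := by rw [hX, hB0, bot_inf_eq]
    rw [this]; infer_instance
  have hgen' : B ≤ normalClosure (X : Set G) := hgen.ge
  have hBnil : Group.IsNilpotent B := hB.isNilpotent
  have hDB : ⁅B, B⁆ < B := by
    have : Group.IsSolvable B := inferInstance
    have : Nontrivial B := (Subgroup.nontrivial_iff_ne_bot B).2 hB0
    refine lt_of_le_of_ne (Subgroup.commutator_le_self B) fun he => ?_
    have h1 : (commutator B).map B.subtype = (⊤ : Subgroup B).map B.subtype := by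
      rw [Subgroup.map_subtype_commutator, he, ← MonoidHom.range_eq_map, Subgroup.range_subtype]
    exact (Group.IsSolvable.commutator_lt_top_of_nontrivial B).ne
      (Subgroup.map_injective B.subtype_injective h1)
  have : ⁅B, B⁆.Normal := Subgroup.commutator_normal B B
  have hWn := IH ⁅B, B⁆ inferInstance hDB
  have hDZ : ⁅B, B⁆ ≤ Z := by
    refine (commutator_le_of_normalClosure (W := ⁅B, B⁆ ⊓ Z) hgen' fun x hx y hy => ?_).trans
      inf_le_right
    refine ⟨Subgroup.commutator_mem_commutator hx.1 hy, ?_⟩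
    rw [commutatorElement_def, mul_assoc x, mul_assoc x]
    refine mul_mem hx.2 ?_
    have hyN := normalizer_le_normalizer_centerThompsonA _ (le_normalizer (hBS hy))
    exact (mem_normalizer_iff.1 hyN x⁻¹).1 (inv_mem hx.2)
  by_cases hall : ∀ A ∈ maxAbIn (S : Subgroup G), B ≤ A
  · have hBZ : B ≤ Z := by
      obtain ⟨A, hA⟩ := maxAbIn_nonempty (S : Subgroup G)
      refine fun b hb => ⟨le_thompsonSubgroupAOf hA (hall A hA hb), fun y hy => ?_⟩
      rw [SetLike.mem_coe, thompsonSubgroupAOf_eq] at hy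
      have hJb : sSup (maxAbIn (S : Subgroup G)) ≤ centralizer {b} := sSup_le fun A hA a ha =>
        Subgroup.mem_centralizer_singleton_iff.2 (comm_of_mulComm hA.2.1 ha (hall A hA hb))
      exact Subgroup.mem_centralizer_singleton_iff.1 (hJb hy)
    have : X = B := inf_eq_left.2 hBZ
    rw [this]; infer_instance
  · exfalso
    push Not at hall
    obtain ⟨U, hU, hnU⟩ := hall
    obtain ⟨A, hA, -, hnA, hBA⟩ := Replacement.exists_normalizes (maxAbIn (S : Subgroup G))
      S.2 hBS (fun s _ => by rw [Subgroup.normalizer_eq_top]; exact mem_top s) (.inl hp2)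
      (fun A hA => hA.1) (fun A hA x hx y hy => comm_of_mulComm hA.2.1 hx hy)
      (fun A hA b hb A' hle hc hcard _ => by
        refine ⟨hle.trans (sup_le hA.1 ?_), mulComm_of_comm hc,
          fun C hC hC' => hcard.symm ▸ hA.2.2 C hC hC'⟩
        rintro _ ⟨a, ha, rfl⟩
        simpa using mul_mem (mul_mem (inv_mem (hBS hb)) (hA.1 ha)) (hBS hb))
      hU (fun d hd => mem_of_centerA hU (hDZ hd)) hnU
    obtain ⟨D, hDn, hCD, hDj, hDa⟩ := exists_stable_sup (hst B hB)
    set T := (S : Subgroup G) ⊓ D with hT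
    have hAT : A ≤ T := fun a ha => ⟨hA.1 ha,
      hDa a (commutator_quadratic hBA (fun x hx y hy => comm_of_mulComm hA.2.1 hx hy) ha)⟩
    set J₁ := Cfsg.thompsonSubgroupAOf T with hJ₁
    have hJ₁J : J₁ ≤ Cfsg.thompsonSubgroupAOf (S : Subgroup G) :=
      thompsonSubgroupAOf_mono inf_le_left hA hAT
    have hAJ₁ : A ≤ J₁ :=
      le_thompsonSubgroupAOf ⟨hAT, hA.2.1, fun C hC hC' => hA.2.2 C (hC.trans inf_le_left) hC'⟩
    have : (B ⊓ centralizer (J₁ : Set G)).Normal := by
      refine ⟨fun w hw g => ⟨Subgroup.Normal.conj_mem inferInstance w hw.1 g, ?_⟩⟩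
      obtain ⟨c, hc, n, hn, rfl⟩ := exists_frattini S (C := centralizer (B : Set G)) hCD hDj g
      have hnJ : n ∈ normalizer (J₁ : Set G) := normalizer_le_normalizer_thompsonA _ hn
      set z := n * w * n⁻¹ with hz
      have hzB : z ∈ B := Subgroup.Normal.conj_mem inferInstance w hw.1 n
      have : c * n * w * (c * n)⁻¹ = z := by
        rw [show c * n * w * (c * n)⁻¹ = c * z * c⁻¹ by rw [hz]; group,
          ← Subgroup.mem_centralizer_iff.1 hc z hzB, mul_inv_cancel_right]
      rw [this, hz]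
      intro y hy
      have hy' : n⁻¹ * y * n ∈ J₁ := (mem_normalizer_iff''.1 hnJ y).1 hy
      have := Subgroup.mem_centralizer_iff.1 hw.2 _ hy'
      calc y * (n * w * n⁻¹) = n * (n⁻¹ * y * n * w) * n⁻¹ := by group
        _ = n * (w * (n⁻¹ * y * n)) * n⁻¹ := by rw [this]
        _ = n * w * n⁻¹ * y := by group
    have hBW : B ≤ B ⊓ centralizer (J₁ : Set G) := hgen'.trans (normalClosure_le_normal
      fun x hx => ⟨hx.1, fun y hy => centerA_comm hx.2 (hJ₁J hy)⟩)
    exact hnA fun b hb => mem_of_maxAbIn hA (hBS hb) fun a ha =>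
      Subgroup.mem_centralizer_iff.1 (hBW hb).2 a (hAJ₁ ha)

/-- The ZJ-theorem, abelian version. -/
theorem centerThompsonAOf_normal (hp2 : p ≠ 2)
    (hc : centralizer (Cfsg.pCore p G : Set G) ≤ Cfsg.pCore p G)
    (hst : ∀ (P : Subgroup G) [P.Normal], IsPGroup p P → Cfsg.IsPStableOn p P) (S : Sylow p G) :
    (Cfsg.centerThompsonAOf (S : Subgroup G)).Normal := by
  have hQ := Cores.pCore_isPGroup (G := G) p
  have hle : Cfsg.centerThompsonAOf (S : Subgroup G) ≤ Cfsg.pCore p G :=
    le_pCore_of_abelian hc (hst _ hQ) S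
      (le_normalizer.trans (normalizer_le_normalizer_centerThompsonA _))
      fun x hx y hy => centerA_comm hy hx.1
  have := inf_centerA_normal hp2 hst S (Cfsg.pCore p G) hQ
  rwa [inf_eq_right.2 hle] at this

end Cfsg.Agent.Lib.ZJ
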