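import Mathlib.GroupTheory.Nilpotent
import Mathlib.GroupTheory.Sylow
import Mathlib.Data.Set.Finite.Lemmas
import Mathlib.GroupTheory.PGroup
import Mathlib.GroupTheory.Exponent
import Mathlib.Algebra.Group.Commute.Basic
import Mathlib.Data.Nat.Choose.Basic
import Cfsg.Agent.Lib.Fusion.Alperin

/-!
# Glauberman's replacement theorem

`astar A b` is `(A ⊓ A ^ b) ⊔ [A, b]`.  If `A` is abelian and contains the derived subgroup of `B`,
`b ∈ B` moves `A` inside its normalizer and has odd order (or `B` is abelian), then `astar A b` is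
abelian of the order of `A`, with the same odd exponent bound.
-/

set_option autoImplicit false

namespace Cfsg.Agent.Lib.ZJ.Replacement

open Subgroup
open scoped commutatorElement

variable {G : Type*} [Group G]

/-- `b⁻¹ A b`. -/
abbrev conjr (A : Subgroup G) (b : G) : Subgroup G := A.map (MulAut.conj b⁻¹).toMonoidHom

/-- `(A ∩ A^b)[A, b]`. -/
abbrev astar (A : Subgroup G) (b : G) : Subgroup G :=
  (A ⊓ conjr A b) ⊔ Subgroup.closure {g : G | ∃ a ∈ A, g = a * b⁻¹ * a⁻¹ * b}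

theorem mem_conjr {A : Subgroup G} {b x : G} : x ∈ conjr A b ↔ b * x * b⁻¹ ∈ A := by
  constructor
  · rintro ⟨a, ha, rfl⟩
    simpa [mul_assoc] using ha
  · exact fun h => ⟨b * x * b⁻¹, h, by simp [mul_assoc]⟩

theorem card_conjr (A : Subgroup G) (b : G) : Nat.card (conjr A b) = Nat.card A :=
  Subgroup.card_map_of_injective (MulEquiv.injective _)

/-- The commutator `[a, b]`. -/
def comb (b a : G) : G := a⁻¹ * (b⁻¹ * a * b)

/-- The hypotheses of the replacement step. -/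
structure Setup (A B : Subgroup G) (b : G) : Prop where
  comm : ∀ x ∈ A, ∀ y ∈ A, x * y = y * x
  derived : ⁅B, B⁆ ≤ A
  mem : b ∈ B
  normalizes : A ≤ normalizer (B : Set G)
  move : ∀ a ∈ A, b⁻¹ * a * b ∈ normalizer (A : Set G)
  move' : ∀ a ∈ A, b * a * b⁻¹ ∈ normalizer (A : Set G)
  odd : Odd (orderOf b) ∨ ∀ x ∈ B, ∀ y ∈ B, x * y = y * x

variable {A B : Subgroup G} {b : G}

namespace Setup

variable (h : Setup A B b)
include h

theorem conjr_mem {a : G} (ha : a ∈ A) : b⁻¹ * a * b ∈ conjr A b :=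
  mem_conjr.2 (by simpa [mul_assoc] using ha)

theorem le_normalizer_conjr {a : G} (ha : a ∈ A) : a ∈ normalizer (conjr A b : Set G) := by
  refine mem_normalizer_iff.2 fun x => ?_
  rw [mem_conjr, mem_conjr]
  have := mem_normalizer_iff.1 (h.move' a ha) (b * x * b⁻¹)
  simpa [mul_assoc] using this

theorem comm_conjr {x y : G} (hx : x ∈ conjr A b) (hy : y ∈ conjr A b) : x * y = y * x := by
  obtain ⟨a, ha, rfl⟩ := hx
  obtain ⟨c, hc, rfl⟩ := hy
  rw [← map_mul, ← map_mul, h.comm a ha c hc]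

/-- `[a, a'^b]` lies in `A ∩ A^b`. -/
theorem comm_mem {a a' : G} (ha : a ∈ A) (ha' : a' ∈ A) :
    ⁅a, b⁻¹ * a' * b⁆ ∈ A ⊓ conjr A b := by
  refine ⟨?_, ?_⟩
  · rw [commutatorElement_def,
      show a * (b⁻¹ * a' * b) * a⁻¹ * (b⁻¹ * a' * b)⁻¹ =
        a * ((b⁻¹ * a' * b) * a⁻¹ * (b⁻¹ * a' * b)⁻¹) by group]
    exact A.mul_mem ha ((mem_normalizer_iff.1 (h.move a' ha') _).1 (A.inv_mem ha))
  · rw [commutatorElement_def]
    exact Subgroup.mul_mem _ ((mem_normalizer_iff.1 (h.le_normalizer_conjr ha) _).1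
      (h.conjr_mem ha')) (Subgroup.inv_mem _ (h.conjr_mem ha'))

theorem central {k z : G} (hk : k ∈ A ⊓ conjr A b) (hz : z ∈ A ⊔ conjr A b) : k * z = z * k := by
  have : A ⊔ conjr A b ≤ Subgroup.centralizer {k} := sup_le
    (fun x hx => Subgroup.mem_centralizer_singleton_iff.2 (h.comm x hx k hk.1))
    (fun x hx => Subgroup.mem_centralizer_singleton_iff.2 (h.comm_conjr hx hk.2))
  exact (Subgroup.mem_centralizer_singleton_iff.1 (this hz)).symm

theorem derived_le : ⁅B, B⁆ ≤ A ⊓ conjr A b := by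
  refine le_inf h.derived fun d hd => mem_conjr.2 (h.derived ?_)
  have hdB : d ∈ B := (Subgroup.commutator_le_self B) hd
  have h1 := Subgroup.commutator_mem_commutator (H₁ := B) (H₂ := B) h.mem hdB
  rw [commutatorElement_def] at h1
  simpa [mul_assoc] using Subgroup.mul_mem _ h1 hd

theorem comb_mem {a : G} (ha : a ∈ A) : comb b a ∈ B := by
  have h1 : a⁻¹ * b⁻¹ * a ∈ B :=
    (mem_normalizer_iff''.1 (h.normalizes ha) b⁻¹).1 (B.inv_mem h.mem)
  have h2 := B.mul_mem h1 h.mem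
  simpa [comb, mul_assoc] using h2

theorem comb_mem_sup {a : G} (ha : a ∈ A) : comb b a ∈ A ⊔ conjr A b :=
  Subgroup.mul_mem _ (mem_sup_left (A.inv_mem ha)) (mem_sup_right (h.conjr_mem ha))

theorem sup_le_normalizer : A ⊔ conjr A b ≤ normalizer (A : Set G) := by
  refine sup_le le_normalizer ?_
  rintro _ ⟨a, ha, rfl⟩
  simpa using h.move a ha

/-- Elements of `A ∩ B` lie in `A ∩ A^b` and stay in `A` under `b`. -/
theorem conj_mem_of_mem {u : G} (hu : u ∈ A) (huB : u ∈ B) :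
    u ∈ A ⊓ conjr A b ∧ b⁻¹ * u * b ∈ A := by
  refine ⟨⟨hu, mem_conjr.2 ?_⟩, ?_⟩
  · have h1 := h.derived (Subgroup.commutator_mem_commutator (H₁ := B) (H₂ := B) h.mem huB)
    rw [commutatorElement_def] at h1
    simpa [mul_assoc] using A.mul_mem h1 hu
  · have h1 := h.derived (Subgroup.commutator_mem_commutator (H₁ := B) (H₂ := B)
      (B.inv_mem h.mem) huB)
    rw [commutatorElement_def, inv_inv] at h1
    simpa [mul_assoc] using A.mul_mem h1 hu

/-- `a ∈ A` has `a^b ∈ A` iff `a ∈ A ∩ A^b`. -/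
theorem conj_mem_iff [Finite G] {a : G} (ha : a ∈ A) :
    b⁻¹ * a * b ∈ A ↔ a ∈ conjr A b := by
  have key : ∀ c ∈ A, b⁻¹ * c * b ∈ A → c ∈ conjr A b := by
    intro c hc hcb
    have hu : comb b c ∈ A := A.mul_mem (A.inv_mem hc) hcb
    have h1 := (h.conj_mem_of_mem hu (h.comb_mem hc)).1
    have h2 : c = b⁻¹ * c * b * (comb b c)⁻¹ := by
      simp only [comb, mul_inv_rev, inv_inv]
      group
    rw [h2]
    exact Subgroup.mul_mem _ (h.conjr_mem hc) (Subgroup.inv_mem _ h1.2)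
  refine ⟨key a ha, fun hab => ?_⟩
  set L : Subgroup G := A ⊓ conjr A b⁻¹ with hL
  have hLK : L ≤ A ⊓ conjr A b := fun c hc =>
    ⟨hc.1, key c hc.1 (by simpa using mem_conjr.1 hc.2)⟩
  have hcard : Nat.card (A ⊓ conjr A b : Subgroup G) = Nat.card L := by
    have h1 : (A ⊓ conjr A b).map (MulAut.conj b).toMonoidHom = L := by
      ext x
      constructor
      · rintro ⟨y, ⟨hy1, hy2⟩, rfl⟩
        exact ⟨by simpa using mem_conjr.1 hy2, mem_conjr.2 (by simpa [mul_assoc] using hy1)⟩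
      · rintro ⟨hx1, hx2⟩
        exact ⟨b⁻¹ * x * b, ⟨by simpa using mem_conjr.1 hx2,
          mem_conjr.2 (by simpa [mul_assoc] using hx1)⟩, by simp [mul_assoc]⟩
    rw [← h1]
    exact (Subgroup.card_map_of_injective (MulEquiv.injective _)).symm
  have : a ∈ L := (Subgroup.eq_of_le_of_card_ge hLK hcard.le).symm ▸ (⟨ha, hab⟩ : a ∈ A ⊓ conjr A b)
  simpa using mem_conjr.1 this.2

theorem conj_comm {a a' : G} (ha : a ∈ A) (ha' : a' ∈ A) :
    b⁻¹ * ⁅a, b⁻¹ * a' * b⁆ * b = ⁅a', b⁻¹ * a * b⁆ := by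
  set x := b⁻¹ * a * b with hx
  set y := b⁻¹ * a' * b with hy
  set u := comb b a' with hu
  have hxy : x * y = y * x := h.comm_conjr (h.conjr_mem ha) (h.conjr_mem ha')
  set d := u⁻¹ * b⁻¹ * u * b with hd
  have hdB : d ∈ A ⊓ conjr A b := by
    refine h.derived_le ?_
    have := Subgroup.commutator_mem_commutator (H₁ := B) (H₂ := B)
      (B.inv_mem (h.comb_mem ha')) (B.inv_mem h.mem)
    simpa [commutatorElement_def, ← hu, hd, mul_assoc] using this
  have hby : b⁻¹ * y * b = y * u * d := by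
    simp only [hd, hu, comb, hy]
    group
  have hxd : d * x = x * d := h.central hdB (mem_sup_right (h.conjr_mem ha))
  have hs := h.comm_mem ha' ha
  rw [← hx] at hs
  have hsy : ⁅a', x⁆ * y = y * ⁅a', x⁆ := h.central hs (mem_sup_right (h.conjr_mem ha'))
  have hsx : ⁅a', x⁆ * a' = a' * ⁅a', x⁆ := h.central hs (mem_sup_left ha')
  calc b⁻¹ * ⁅a, y⁆ * b = ⁅x, b⁻¹ * y * b⁆ := by
        simp only [commutatorElement_def, hx]; group
    _ = x * (y * u) * (d * x⁻¹ * d⁻¹) * (y * u)⁻¹ := by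
        rw [hby, commutatorElement_def]; group
    _ = x * (y * u) * x⁻¹ * (y * u)⁻¹ := by
        rw [show d * x⁻¹ = x⁻¹ * d from Commute.inv_right hxd]; group
    _ = (x * y) * u * x⁻¹ * u⁻¹ * y⁻¹ := by group
    _ = y * ⁅x, u⁆ * y⁻¹ := by rw [hxy, commutatorElement_def]; group
    _ = ⁅a', x⁆ := ?_
  have h1 : ⁅x, u⁆ = ⁅a', x⁆ := by
    calc ⁅x, u⁆ = x * a'⁻¹ * (y * x⁻¹ * y⁻¹) * a' := by
          simp only [commutatorElement_def, hu, comb, ← hy]; group
      _ = x * a'⁻¹ * x⁻¹ * a' := by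
          rw [show y * x⁻¹ = x⁻¹ * y from Commute.inv_right hxy.symm]; group
      _ = a'⁻¹ * ⁅a', x⁆ * a' := by rw [commutatorElement_def]; group
      _ = ⁅a', x⁆ := by rw [mul_assoc, hsx, inv_mul_cancel_left]
  rw [h1, ← hsy, mul_inv_cancel_right]

theorem comb_mul_comb {a a' : G} (ha : a ∈ A) (ha' : a' ∈ A) :
    comb b a * comb b a' = ⁅a', b⁻¹ * a * b⁆ * comb b (a * a') := by
  set x := b⁻¹ * a * b with hx
  have hs := h.comm_mem ha' ha
  rw [← hx] at hs
  have hs1 : ⁅a', x⁆ * a'⁻¹ = a'⁻¹ * ⁅a', x⁆ := h.central hs (mem_sup_left (A.inv_mem ha'))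
  have hs2 : ⁅a', x⁆ * a⁻¹ = a⁻¹ * ⁅a', x⁆ := h.central hs (mem_sup_left (A.inv_mem ha))
  have hc : a⁻¹ * a'⁻¹ = (a * a')⁻¹ := by rw [h.comm a ha a' ha', mul_inv_rev]
  calc comb b a * comb b a' = a⁻¹ * (x * a'⁻¹) * (b⁻¹ * a' * b) := by
        simp only [comb, hx]; group
    _ = a⁻¹ * (a'⁻¹ * ⁅a', x⁆) * x * (b⁻¹ * a' * b) := by
        rw [commutatorElement_def]; group
    _ = (a⁻¹ * ⁅a', x⁆) * a'⁻¹ * x * (b⁻¹ * a' * b) := by rw [← hs1]; group
    _ = ⁅a', x⁆ * (a⁻¹ * a'⁻¹) * x * (b⁻¹ * a' * b) := by rw [← hs2]; group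
    _ = ⁅a', x⁆ * comb b (a * a') := by
        rw [hc]; simp only [comb, hx]; group

theorem comm_symm {a a' : G} (ha : a ∈ A) (ha' : a' ∈ A) :
    ⁅a, b⁻¹ * a' * b⁆ = ⁅a', b⁻¹ * a * b⁆ := by
  rcases h.odd with hodd | hB
  · set s := ⁅a, b⁻¹ * a' * b⁆
    have h2 : b⁻¹ * (b⁻¹ * s * b) * b = s := by
      rw [h.conj_comm ha ha', h.conj_comm ha' ha]
    have hb2 : Commute (b ^ 2) s := by
      show b ^ 2 * s = s * b ^ 2
      conv_lhs => rw [← h2]
      rw [pow_two]; group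
    have hb1 : Commute b s := by
      obtain ⟨k, hk⟩ := hodd
      have : (b ^ 2) ^ (k + 1) = b := by
        rw [← pow_mul, show 2 * (k + 1) = orderOf b + 1 by omega, pow_succ, pow_orderOf_eq_one,
          one_mul]
      exact this ▸ hb2.pow_left _
    rw [← h.conj_comm ha ha', mul_assoc, ← hb1.eq, inv_mul_cancel_left]
  · have h1 := hB _ (h.comb_mem ha) _ (h.comb_mem ha')
    rw [h.comb_mul_comb ha ha', h.comb_mul_comb ha' ha, h.comm a' ha' a ha] at h1
    exact (mul_right_cancel h1).symm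

theorem comb_comm {a a' : G} (ha : a ∈ A) (ha' : a' ∈ A) :
    comb b a * comb b a' = comb b a' * comb b a := by
  rw [h.comb_mul_comb ha ha', h.comb_mul_comb ha' ha, h.comm_symm ha ha', h.comm a' ha' a ha]

omit h in
theorem comb_inv_eq (b a : G) : a * b⁻¹ * a⁻¹ * b = comb b a⁻¹ := by
  simp [comb, mul_assoc]

omit h in
theorem comb_mem_astar {a : G} (ha : a ∈ A) : comb b a ∈ astar A b :=
  mem_sup_right (Subgroup.subset_closure ⟨a⁻¹, A.inv_mem ha, by simp [comb, mul_assoc]⟩)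

theorem astar_le_sup : astar A b ≤ A ⊔ conjr A b := by
  refine sup_le (inf_le_left.trans le_sup_left) ((Subgroup.closure_le _).2 ?_)
  rintro _ ⟨a, ha, rfl⟩
  rw [comb_inv_eq]
  exact h.comb_mem_sup (A.inv_mem ha)

theorem astar_comm : ∀ x ∈ astar A b, ∀ y ∈ astar A b, x * y = y * x := by
  set T : Set G := ((A ⊓ conjr A b : Subgroup G) : Set G) ∪
    {g : G | ∃ a ∈ A, g = a * b⁻¹ * a⁻¹ * b} with hT
  have hA : astar A b = Subgroup.closure T := by
    rw [hT, Subgroup.closure_union, Subgroup.closure_eq]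
  have hc : ∀ x ∈ T, ∀ y ∈ T, x * y = y * x := by
    rintro x (hx | ⟨a, ha, rfl⟩) y (hy | ⟨c, hc, rfl⟩)
    · exact h.comm x (hx : x ∈ A ⊓ conjr A b).1 y (hy : y ∈ A ⊓ conjr A b).1
    · exact h.central hx (by rw [comb_inv_eq]; exact h.comb_mem_sup (A.inv_mem hc))
    · exact (h.central hy (by rw [comb_inv_eq]; exact h.comb_mem_sup (A.inv_mem ha))).symm
    · rw [comb_inv_eq, comb_inv_eq]
      exact h.comb_comm (A.inv_mem ha) (A.inv_mem hc)
  intro x hx y hy
  rw [hA] at hx hy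
  have h1 : Subgroup.closure T ≤ Subgroup.centralizer T := by
    rw [Subgroup.closure_le]
    exact fun t ht u hu => hc u hu t ht
  have h2 : Subgroup.closure T ≤ Subgroup.centralizer (Subgroup.closure T : Set G) :=
    Subgroup.le_centralizer_iff.1 (by rw [Subgroup.closure_le]; exact fun t ht u hu =>
      (h1 hu t ht).symm)
  exact (h2 hx y hy).symm

theorem card_astar [Finite G] : Nat.card (astar A b) = Nat.card A := by
  set K := A ⊓ conjr A b with hK
  have hKs : K ≤ astar A b := le_sup_left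
  haveI : IsMulCommutative (astar A b) := ⟨⟨fun x y => Subtype.ext (h.astar_comm x x.2 y y.2)⟩⟩
  haveI : (K.subgroupOf (astar A b)).Normal :=
    ⟨fun n hn g => by
      have : g * n * g⁻¹ = n := Subtype.ext (by
        simp [h.astar_comm g g.2 n n.2])
      rwa [this]⟩
  let ψ : A →* astar A b ⧸ K.subgroupOf (astar A b) :=
    MonoidHom.mk' (fun a => QuotientGroup.mk ⟨comb b a, comb_mem_astar a.2⟩) (by
      intro a c
      rw [← QuotientGroup.mk_mul, QuotientGroup.eq, mem_subgroupOf]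
      simp only [Subgroup.coe_mul, InvMemClass.coe_inv]
      have hs : ⁅(c : G), b⁻¹ * a * b⁆ ∈ K := h.comm_mem c.2 a.2
      have hz := h.central (Subgroup.inv_mem _ hs) (Subgroup.inv_mem _ (h.comb_mem_sup (A.mul_mem a.2 c.2)))
      rw [h.comb_mul_comb a.2 c.2,
        show (comb b ((a : G) * c))⁻¹ * (⁅(c : G), b⁻¹ * a * b⁆ * comb b ((a : G) * c)) =
          (comb b ((a : G) * c))⁻¹ * ⁅(c : G), b⁻¹ * a * b⁆ * comb b ((a : G) * c) by group]
      have hz' : (comb b ((a : G) * c))⁻¹ * ⁅(c : G), b⁻¹ * a * b⁆ =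
          ⁅(c : G), b⁻¹ * a * b⁆ * (comb b ((a : G) * c))⁻¹ :=
        (h.central hs (Subgroup.inv_mem _ (h.comb_mem_sup (A.mul_mem a.2 c.2)))).symm
      rw [hz', inv_mul_cancel_right]
      exact hs)
  have hker : ψ.ker = K.subgroupOf A := by
    ext a
    rw [MonoidHom.mem_ker, mem_subgroupOf]
    show (QuotientGroup.mk ⟨comb b a, _⟩ : astar A b ⧸ _) = 1 ↔ _
    rw [QuotientGroup.eq_one_iff, mem_subgroupOf]
    constructor
    · intro hu
      have h1 : b⁻¹ * a * b ∈ A := by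
        have := A.mul_mem a.2 hu.1
        simpa [comb, mul_assoc] using this
      exact ⟨a.2, (h.conj_mem_iff a.2).1 h1⟩
    · intro ha
      refine ⟨A.mul_mem (A.inv_mem a.2) ((h.conj_mem_iff a.2).2 ha.2), ?_⟩
      exact Subgroup.mul_mem _ (Subgroup.inv_mem _ ha.2) (h.conjr_mem a.2)
  have hsurj : Function.Surjective ψ := by
    rw [← MonoidHom.range_eq_top, eq_top_iff]
    intro q _
    obtain ⟨⟨z, hz⟩, rfl⟩ := QuotientGroup.mk_surjective q
    let R : Subgroup (astar A b) := ψ.range.comap (QuotientGroup.mk' _)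
    have hR : astar A b ≤ R.map (astar A b).subtype := by
      refine sup_le ?_ ((Subgroup.closure_le _).2 ?_)
      · intro k hk
        refine ⟨⟨k, hKs hk⟩, ⟨1, ?_⟩, rfl⟩
        rw [map_one]
        exact ((QuotientGroup.eq_one_iff _).2 (by rw [mem_subgroupOf]; exact hk)).symm
      · rintro _ ⟨a, ha, rfl⟩
        rw [comb_inv_eq]
        exact ⟨⟨comb b a⁻¹, comb_mem_astar (A.inv_mem ha)⟩, ⟨⟨a⁻¹, A.inv_mem ha⟩, rfl⟩, rfl⟩
    obtain ⟨w, hw, hwz⟩ := hR hz
    have : w = ⟨z, hz⟩ := Subtype.ext hwz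
    exact this ▸ hw
  have h1 := Subgroup.card_eq_card_quotient_mul_card_subgroup (K.subgroupOf A)
  have h2 := Subgroup.card_eq_card_quotient_mul_card_subgroup (K.subgroupOf (astar A b))
  have h3 := Nat.card_congr (QuotientGroup.quotientKerEquivOfSurjective ψ hsurj).toEquiv
  have h4 := Nat.card_congr (Subgroup.subgroupOfEquivOfLe (inf_le_left : K ≤ A)).toEquiv
  have h5 := Nat.card_congr (Subgroup.subgroupOfEquivOfLe hKs).toEquiv
  rw [hker] at h3
  rw [h1, h2, ← h3, h4, h5]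

theorem pow_astar {n : ℕ} (hn : Odd n) (hexp : ∀ a ∈ A, a ^ n = 1) :
    ∀ x ∈ astar A b, x ^ n = 1 := by
  have hgen : ∀ a ∈ A, (comb b a) ^ n = 1 := by
    intro a ha
    set x := b⁻¹ * a * b with hx
    have hw := h.comm_mem ha ha
    rw [← hx] at hw
    set w := ⁅a, x⁆ with hw'
    have hwa : Commute w a := h.central hw (mem_sup_left ha)
    have hwx : Commute w x := h.central hw (mem_sup_right (h.conjr_mem ha))
    have hxa : ∀ m : ℕ, x ^ m * a⁻¹ = a⁻¹ * x ^ m * w ^ m := by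
      intro m
      induction m with
      | zero => simp
      | succ m ih =>
        have h1 : x * a⁻¹ = a⁻¹ * w * x := by rw [hw', commutatorElement_def]; group
        calc x ^ (m + 1) * a⁻¹ = x ^ m * (x * a⁻¹) := by rw [pow_succ, mul_assoc]
          _ = (x ^ m * a⁻¹) * (w * x) := by rw [h1]; group
          _ = a⁻¹ * x ^ m * (w ^ m * (w * x)) := by rw [ih]; group
          _ = a⁻¹ * x ^ m * (x * w ^ (m + 1)) := by
              rw [← mul_assoc (w ^ m), ← pow_succ, ((hwx.pow_left (m + 1)).eq)]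
          _ = a⁻¹ * x ^ (m + 1) * w ^ (m + 1) := by rw [pow_succ x]; group
    have hpow : ∀ m : ℕ, (a⁻¹ * x) ^ m = (a⁻¹) ^ m * x ^ m * w ^ m.choose 2 := by
      intro m
      induction m with
      | zero => simp
      | succ m ih =>
        have hc : (m + 1).choose 2 = m.choose 2 + m := by
          rw [Nat.choose_succ_succ' m 1, Nat.choose_one_right, add_comm]
        have h2 : Commute (w ^ m.choose 2) (a⁻¹ * x) :=
          (hwa.inv_right.mul_right hwx).pow_left _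
        calc (a⁻¹ * x) ^ (m + 1) = (a⁻¹) ^ m * x ^ m * (w ^ m.choose 2 * (a⁻¹ * x)) := by
              rw [pow_succ, ih, mul_assoc]
          _ = (a⁻¹) ^ m * (x ^ m * a⁻¹) * (x * w ^ m.choose 2) := by rw [h2.eq]; group
          _ = (a⁻¹) ^ m * (a⁻¹ * x ^ m) * ((w ^ m * x) * w ^ m.choose 2) := by rw [hxa]; group
          _ = (a⁻¹) ^ m * (a⁻¹ * x ^ m) * ((x * w ^ m) * w ^ m.choose 2) := by
              rw [(hwx.pow_left m).eq]
          _ = (a⁻¹) ^ (m + 1) * x ^ (m + 1) * w ^ (m + 1).choose 2 := by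
              rw [hc, pow_succ (a⁻¹), pow_succ x, pow_add, (Commute.pow_pow_self w (m.choose 2) m).eq]
              simp only [mul_assoc]
    have hxn : x ^ n = 1 := by
      rw [hx, show b⁻¹ * a * b = b⁻¹ * a * (b⁻¹)⁻¹ by rw [inv_inv], conj_pow, hexp a ha]
      group
    have hwn : w ^ n.choose 2 = 1 := by
      obtain ⟨k, hk⟩ := hn
      have h3 : n.choose 2 = n * k := by
        rw [Nat.choose_two_right, hk, show 2 * k + 1 - 1 = k * 2 by omega, ← mul_assoc,
          Nat.mul_div_cancel _ (by norm_num : 0 < 2)]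
      rw [h3, pow_mul, hexp w hw.1, one_pow]
    show (a⁻¹ * x) ^ n = 1
    rw [hpow, inv_pow, hexp a ha, hxn, hwn]
    simp
  let P : Subgroup G :=
    { carrier := {x | x ∈ astar A b ∧ x ^ n = 1}
      one_mem' := ⟨Subgroup.one_mem _, one_pow n⟩
      mul_mem' := fun {x y} hx hy => ⟨Subgroup.mul_mem _ hx.1 hy.1, by
        rw [Commute.mul_pow (h.astar_comm x hx.1 y hy.1), hx.2, hy.2, one_mul]⟩
      inv_mem' := fun {x} hx => ⟨Subgroup.inv_mem _ hx.1, by rw [inv_pow, hx.2, inv_one]⟩ }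
  have hle : astar A b ≤ P := by
    refine sup_le (fun k hk => ⟨mem_sup_left hk, hexp k hk.1⟩) ((Subgroup.closure_le _).2 ?_)
    rintro g ⟨a, ha, rfl⟩
    rw [comb_inv_eq]
    exact ⟨comb_mem_astar (A.inv_mem ha), hgen _ (A.inv_mem ha)⟩
  exact fun x hx => (hle hx).2

theorem derived_le_astar : ⁅B, B⁆ ≤ astar A b := h.derived_le.trans le_sup_left

theorem inf_le_astar : A ⊓ B ≤ astar A b :=
  fun _ hu => mem_sup_left (h.conj_mem_of_mem hu.1 hu.2).1

theorem inf_lt_astar_inf [Finite G] (hbA : b ∉ normalizer (A : Set G)) :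
    A ⊓ B < astar A b ⊓ B := by
  refine lt_of_le_of_ne (le_inf h.inf_le_astar inf_le_right) fun he => hbA ?_
  refine Cfsg.Agent.Lib.Fusion.Alperin.mem_normalizer_of_conjS_eq ?_
  have h1 : conjr A b ≤ A := by
    rintro _ ⟨a, ha, rfl⟩
    have h2 : comb b a ∈ astar A b ⊓ B := ⟨comb_mem_astar ha, h.comb_mem ha⟩
    rw [← he] at h2
    have := A.mul_mem ha h2.1
    simpa [comb, mul_assoc] using this
  have h3 := Subgroup.eq_of_le_of_card_ge h1 (card_conjr A b).ge
  show A.map (MulAut.conj b).toMonoidHom = A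
  conv_lhs => rw [← h3]
  rw [conjr, Subgroup.map_map]
  ext x
  simp [MulAut.conj, mul_assoc]

theorem astar_inf_lt (hbA : b ∉ normalizer (A : Set G)) : astar A b ⊓ B < B := by
  refine lt_of_le_of_ne inf_le_right fun he => hbA (h.sup_le_normalizer (h.astar_le_sup ?_))
  exact (inf_eq_right.1 he) h.mem

end Setup

variable [Finite G] {p : ℕ} [hp : Fact p.Prime]

/-- Glauberman's replacement theorem for a family of abelian subgroups of a `p`-group `P`. -/
theorem exists_normalizes {P B : Subgroup G} (F : Set (Subgroup G)) (hP : IsPGroup p P)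
    (hBP : B ≤ P) (hPB : P ≤ normalizer (B : Set G))
    (h2 : p ≠ 2 ∨ ∀ x ∈ B, ∀ y ∈ B, x * y = y * x)
    (hFP : ∀ A ∈ F, A ≤ P) (hFc : ∀ A ∈ F, ∀ x ∈ A, ∀ y ∈ A, x * y = y * x)
    (hF : ∀ A ∈ F, ∀ b ∈ B, ∀ A' : Subgroup G, A' ≤ A ⊔ conjr A b →
      (∀ x ∈ A', ∀ y ∈ A', x * y = y * x) → Nat.card A' = Nat.card A →
      (∀ n : ℕ, Odd n → (∀ a ∈ A, a ^ n = 1) → ∀ a ∈ A', a ^ n = 1) → A' ∈ F)
    {U : Subgroup G} (hU : U ∈ F) (hdU : ⁅B, B⁆ ≤ U) (hnU : ¬ B ≤ U) :
    ∃ A ∈ F, ⁅B, B⁆ ≤ A ∧ ¬ B ≤ A ∧ B ≤ normalizer (A : Set G) := by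
  obtain ⟨A, ⟨hAF, hdA, hnA⟩, hmax⟩ :=
    Set.exists_max_image {A : Subgroup G | A ∈ F ∧ ⁅B, B⁆ ≤ A ∧ ¬ B ≤ A}
      (fun A => Nat.card (A ⊓ B : Subgroup G)) (Set.toFinite _) ⟨U, hU, hdU, hnU⟩
  refine ⟨A, hAF, hdA, hnA, ?_⟩
  by_contra hBN
  set N := P ⊓ normalizer (A : Set G) with hN
  have hAN : A ≤ N := le_inf (hFP A hAF) le_normalizer
  have hNB : N ≤ normalizer (B : Set G) := inf_le_left.trans hPB
  have hlt : N < N ⊔ B := lt_of_le_of_ne le_sup_left fun he =>
    hBN ((le_sup_right.trans he.ge).trans inf_le_right)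
  have hH : IsPGroup p (N ⊔ B : Subgroup G) := hP.to_le (sup_le inf_le_left hBP)
  obtain ⟨z, hz, hzN⟩ := SetLike.exists_of_lt
    (Cfsg.Agent.Lib.Fusion.Alperin.lt_inf_normalizer hH hlt)
  have hz' : z ∈ ((N ⊔ B : Subgroup G) : Set G) := hz.1
  rw [Subgroup.coe_mul_of_left_le_normalizer_right N B hNB] at hz'
  obtain ⟨n, hn, b, hb, rfl⟩ := hz'
  have hbN : b ∈ normalizer (N : Set G) := by
    have := mul_mem (inv_mem (le_normalizer (hn : n ∈ N))) hz.2
    simpa using this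
  have hbA : b ∉ normalizer (A : Set G) := fun hbA => hzN (mul_mem hn ⟨hBP hb, hbA⟩)
  have hS : Setup A B b :=
    { comm := hFc A hAF
      derived := hdA
      mem := hb
      normalizes := (hFP A hAF).trans hPB
      move := fun a ha => ((mem_normalizer_iff''.1 hbN a).1 (hAN ha)).2
      move' := fun a ha => ((mem_normalizer_iff.1 hbN a).1 (hAN ha)).2
      odd := h2.imp_left fun hp2 => by
        obtain ⟨k, hk⟩ := IsPGroup.iff_orderOf.1 hP ⟨b, hBP hb⟩
        rw [Subgroup.orderOf_mk] at hk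
        rw [hk]
        exact (hp.out.odd_of_ne_two hp2).pow }
  have hA' : astar A b ∈ F := hF A hAF b hb _ hS.astar_le_sup hS.astar_comm hS.card_astar
    fun n hn he => hS.pow_astar hn he
  have h3 := hmax _ ⟨hA', hS.derived_le_astar, fun hle => (hS.astar_inf_lt hbA).ne
    (inf_eq_right.2 hle)⟩
  have h4 := hS.inf_lt_astar_inf hbA
  exact (h4.ne (Subgroup.eq_of_le_of_card_ge h4.le h3)).elim

end Cfsg.Agent.Lib.ZJ.Replacement
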