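import Cfsg.Prelude.Def_PLocal
import Cfsg.Agent.Lib.ZJ.Replacement
import Cfsg.Agent.Lib.CharP.Parabolic
import Cfsg.Agent.Lib.PGroups.Thompson
import Cfsg.Agent.Lib.Cores.Basic

/-!
# Common tools for the ZJ-theorem

Class two identities, the Frattini argument modulo a normal subgroup of `p`-power index, and the
normal subgroup given by a quadratic element on a `p`-stable normal subgroup.
-/

set_option autoImplicit false

namespace Cfsg.Agent.Lib.ZJ

open Subgroup
open scoped commutatorElement

variable {G : Type*} [Group G]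

/-- `(xy)^n` in class two. -/
theorem pow_mul_classTwo {x y w : G} (hw : ⁅y, x⁆ = w) (hwx : Commute w x) (hwy : Commute w y)
    (n : ℕ) : (x * y) ^ n = x ^ n * y ^ n * w ^ n.choose 2 := by
  have hyx : ∀ m : ℕ, y ^ m * x = x * y ^ m * w ^ m := by
    intro m
    induction m with
    | zero => simp
    | succ m ih =>
      have h1 : y * x = x * y * w := by
        have : y * x = w * (x * y) := by rw [← hw, commutatorElement_def]; group
        rw [this, ((hwx.mul_right hwy)).eq]
      calc y ^ (m + 1) * x = y ^ m * (y * x) := by rw [pow_succ, mul_assoc]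
        _ = (y ^ m * x) * (y * w) := by rw [h1]; group
        _ = x * y ^ m * ((w ^ m * y) * w) := by rw [ih]; group
        _ = x * y ^ m * ((y * w ^ m) * w) := by rw [(hwy.pow_left m).eq]
        _ = x * y ^ (m + 1) * w ^ (m + 1) := by rw [pow_succ y, pow_succ w]; group
  induction n with
  | zero => simp
  | succ m ih =>
    have hc : (m + 1).choose 2 = m + m.choose 2 := by
      rw [Nat.choose_succ_succ' m 1, Nat.choose_one_right]
    calc (x * y) ^ (m + 1) = x ^ m * y ^ m * (w ^ m.choose 2 * (x * y)) := by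
          rw [pow_succ, ih, mul_assoc]
      _ = x ^ m * y ^ m * ((x * y) * w ^ m.choose 2) := by
          rw [((hwx.mul_right hwy).pow_left _).eq]
      _ = x ^ m * (y ^ m * x) * (y * w ^ m.choose 2) := by group
      _ = x ^ m * x * y ^ m * ((w ^ m * y) * w ^ m.choose 2) := by rw [hyx]; group
      _ = x ^ (m + 1) * y ^ (m + 1) * (w ^ m * w ^ m.choose 2) := by
          rw [(hwy.pow_left m).eq, pow_succ x, pow_succ y]; group
      _ = _ := by rw [hc, pow_add w]

/-- A commutator that is central is additive in the first argument. -/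
theorem commutator_pow_left {x y w : G} (hw : ⁅x, y⁆ = w) (hwx : Commute w x) (n : ℕ) :
    ⁅x ^ n, y⁆ = w ^ n := by
  induction n with
  | zero => simp
  | succ m ih =>
    have : ⁅x ^ (m + 1), y⁆ = x * ⁅x ^ m, y⁆ * x⁻¹ * ⁅x, y⁆ := by
      simp only [commutatorElement_def, pow_succ']; group
    rw [this, ih, hw, ← (hwx.pow_left m).eq, mul_inv_cancel_right, ← pow_succ]

/-- If all elements of a set commute into `W` with `B`, so does its normal closure. -/
theorem commutator_le_of_normalClosure {B W : Subgroup G} [B.Normal] [W.Normal] {X : Set G}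
    (hB : B ≤ normalClosure X) (h : ∀ x ∈ X, ∀ y ∈ B, ⁅x, y⁆ ∈ W) : ⁅B, B⁆ ≤ W := by
  set f := QuotientGroup.mk' W
  haveI : (B.map f).Normal := Subgroup.Normal.map inferInstance f (QuotientGroup.mk'_surjective W)
  have hK : B ≤ (centralizer ((B.map f : Subgroup (G ⧸ W)) : Set (G ⧸ W))).comap f := by
    refine hB.trans (normalClosure_le_normal fun x hx => ?_)
    rintro _ ⟨y, hy, rfl⟩
    have := (QuotientGroup.eq_one_iff (N := W) _).2 (h x hx y hy)
    rw [← QuotientGroup.mk'_apply, map_commutatorElement] at this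
    exact (commutatorElement_eq_one_iff_mul_comm.1 this).symm
  refine Subgroup.commutator_le.2 fun a ha c hc => (QuotientGroup.eq_one_iff (N := W) _).1 ?_
  rw [← QuotientGroup.mk'_apply, map_commutatorElement, commutatorElement_eq_one_iff_mul_comm]
  exact (hK ha _ ⟨c, hc, rfl⟩).symm

/-- A normal subgroup centralised by generators is centralised by their normal closure. -/
theorem le_centralizer_of_normalClosure {B W : Subgroup G} [W.Normal] {X : Set G}
    (hB : B ≤ normalClosure X) (h : ∀ x ∈ X, ∀ w ∈ W, w * x = x * w) :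
    B ≤ centralizer (W : Set G) :=
  hB.trans (normalClosure_le_normal fun x hx w hw => h x hx w hw)

variable [Finite G] {p : ℕ} [hp : Fact p.Prime]

/-- The Frattini argument modulo a normal subgroup `C` with `M/C` a `p`-group. -/
theorem exists_frattini (S : Sylow p G) {C M : Subgroup G} [C.Normal] [M.Normal] (hCM : C ≤ M)
    (h : ∀ m ∈ M, ∃ j : ℕ, m ^ (p ^ j) ∈ C) (g : G) :
    ∃ c ∈ C, ∃ n ∈ normalizer (((S : Subgroup G) ⊓ M : Subgroup G) : Set G), g = c * n := by
  have hSM : (S : Subgroup G) ≤ normalizer (M : Set G) := fun x _ => by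
    rw [Subgroup.normalizer_eq_top]; exact Subgroup.mem_top x
  obtain ⟨c, hc, hn⟩ := CharP.exists_mul_mem_normalizer S hSM (m := g)
    (by rw [Subgroup.normalizer_eq_top]; exact Subgroup.mem_top g)
  set T := (S : Subgroup G) ⊓ M with hT
  have hMle : M ≤ C ⊔ T := by
    obtain ⟨P, hP⟩ := CharP.exists_sylow_inf S hSM
    rw [← hT] at hP
    rw [← Subgroup.relIndex_eq_one]
    have h1 : (C ⊔ T).relIndex M ∣ T.relIndex M :=
      Subgroup.relIndex_dvd_of_le_left _ le_sup_right
    have h2 : (C ⊔ T).relIndex M ∣ C.relIndex M :=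
      Subgroup.relIndex_dvd_of_le_left _ le_sup_left
    have h3 : ∃ k : ℕ, C.relIndex M = p ^ k := by
      have hq : IsPGroup p (↥M ⧸ C.subgroupOf M) := fun q => by
        induction q using QuotientGroup.induction_on with
        | _ m =>
          obtain ⟨j, hj⟩ := h m m.2
          refine ⟨j, ?_⟩
          rw [← QuotientGroup.mk_pow, QuotientGroup.eq_one_iff, Subgroup.mem_subgroupOf]
          simpa using hj
      obtain ⟨k, hk⟩ := IsPGroup.iff_card.1 hq
      exact ⟨k, by rw [Subgroup.relIndex, Subgroup.index, hk]⟩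
    obtain ⟨k, hk⟩ := h3
    have h4 : ¬ p ∣ T.relIndex M := by
      rw [Subgroup.relIndex, ← hP]; exact P.not_dvd_index
    obtain ⟨i, -, hi⟩ := (Nat.dvd_prime_pow hp.out).1 (hk ▸ h2)
    rcases Nat.eq_zero_or_pos i with hi0 | hi0
    · simpa [hi0] using hi
    · exact absurd ((dvd_pow_self p hi0.ne').trans (hi ▸ h1)) h4
  have hc' : c⁻¹ ∈ ((C ⊔ T : Subgroup G) : Set G) := hMle (inv_mem hc)
  rw [Subgroup.normal_mul C T] at hc'
  obtain ⟨c₁, hc₁, t, ht, hct⟩ := hc'
  exact ⟨c₁, hc₁, t * (c * g), mul_mem (le_normalizer ht) hn, by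
    rw [← mul_assoc, show c₁ * t = c⁻¹ from hct, inv_mul_cancel_left]⟩

/-- The normal subgroup of `p`-power index over the kernel given by `p`-stability. -/
theorem exists_stable_sup {V : Subgroup G} [V.Normal] (h : Cfsg.IsPStableOn p V) :
    ∃ D : Subgroup G, D.Normal ∧ centralizer (V : Set G) ≤ D ∧
      (∀ m ∈ D, ∃ j : ℕ, m ^ (p ^ j) ∈ centralizer (V : Set G)) ∧
      ∀ a : G, ⁅⁅V, zpowers a⁆, zpowers a⁆ = ⊥ → a ∈ D := by
  set C := centralizer (V : Set G)
  refine ⟨(Cfsg.pCore p (G ⧸ C)).comap (QuotientGroup.mk' C), inferInstance, ?_, ?_, fun a ha => h a ha⟩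
  · intro c hc
    rw [Subgroup.mem_comap, QuotientGroup.mk'_apply, (QuotientGroup.eq_one_iff c).2 hc]
    exact one_mem _
  · intro m hm
    obtain ⟨j, hj⟩ := Cores.pCore_isPGroup (G := G ⧸ C) p ⟨_, hm⟩
    refine ⟨j, (QuotientGroup.eq_one_iff _).1 ?_⟩
    simpa [Subtype.ext_iff] using hj

omit [Finite G] hp in
/-- An element of an abelian subgroup normalised by `V` acts quadratically on `V`. -/
theorem commutator_quadratic {V A : Subgroup G} (hV : V ≤ normalizer (A : Set G))
    (hA : ∀ x ∈ A, ∀ y ∈ A, x * y = y * x) {a : G} (ha : a ∈ A) :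
    ⁅⁅V, zpowers a⁆, zpowers a⁆ = ⊥ := by
  have hz : zpowers a ≤ A := zpowers_le.2 ha
  have h1 : ⁅V, zpowers a⁆ ≤ A := Subgroup.commutator_le.2 fun v hv x hx => by
    rw [commutatorElement_def]
    exact mul_mem ((mem_normalizer_iff.1 (hV hv) x).1 (hz hx)) (inv_mem (hz hx))
  rw [eq_bot_iff]
  refine (Subgroup.commutator_mono h1 hz).trans (Subgroup.commutator_le.2 fun x hx y hy => ?_)
  rw [Subgroup.mem_bot, commutatorElement_eq_one_iff_mul_comm]
  exact hA x hx y hy

/-- A `p`-stable action on `O_p(G) ⊇ C(O_p(G))` keeps abelian normal subgroups of a Sylow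
subgroup inside `O_p(G)`. -/
theorem le_pCore_of_abelian
    (hc : centralizer (Cfsg.pCore p G : Set G) ≤ Cfsg.pCore p G)
    (hst : Cfsg.IsPStableOn p (Cfsg.pCore p G)) (S : Sylow p G) {Z : Subgroup G}
    (hSZ : (S : Subgroup G) ≤ normalizer (Z : Set G))
    (hZ : ∀ x ∈ Z, ∀ y ∈ Z, x * y = y * x) : Z ≤ Cfsg.pCore p G := by
  obtain ⟨D, hDn, -, hD, hDa⟩ := exists_stable_sup hst
  have hQ : IsPGroup p (Cfsg.pCore p G) := Cores.pCore_isPGroup p
  have hDp : IsPGroup p D := fun m => by
    obtain ⟨j, hj⟩ := hD m m.2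
    obtain ⟨i, hi⟩ := hQ ⟨_, hc hj⟩
    refine ⟨j + i, Subtype.ext ?_⟩
    rw [SubmonoidClass.coe_pow, pow_add, pow_mul]
    simpa [Subtype.ext_iff] using hi
  intro z hz
  exact Cores.le_pCore hDp (hDa z
    (commutator_quadratic ((Cores.pCore_le_sylow S).trans hSZ) hZ hz))

/-- A subgroup attached equivariantly to a Sylow subgroup is characteristic as soon as it is
normal. -/
theorem characteristic_of_normal (f : Subgroup G → Subgroup G)
    (hf : ∀ (e : G ≃* G) (P : Subgroup G), (f P).map e.toMonoidHom = f (P.map e.toMonoidHom))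
    (S : Sylow p G) (hn : (f (S : Subgroup G)).Normal) : (f (S : Subgroup G)).Characteristic := by
  rw [Subgroup.characteristic_iff_map_eq]
  intro φ
  obtain ⟨g, hg⟩ := MulAction.exists_smul_eq G S (S.mapSurjective (f := φ.toMonoidHom) φ.surjective)
  have h1 : (S : Subgroup G).map φ.toMonoidHom = (S : Subgroup G).map (MulAut.conj g).toMonoidHom := by
    have := congrArg Sylow.toSubgroup hg
    exact this.symm
  rw [hf φ, h1, ← hf (MulAut.conj g)]
  exact PGroups.map_conj_eq_of_mem_normalizer (by rw [Subgroup.normalizer_eq_top]; exact mem_top g)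

end Cfsg.Agent.Lib.ZJ
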