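import Cfsg.Agent.Lib.ZJ.Elementary
import Cfsg.Agent.Lib.ZJ.Abelian
import Cfsg.Agent.Lib.ZJ.StableFree
import Cfsg.Agent.Lib.ConjFunctor.Main

/-!
# Control of fusion by `N(Z(J(S)))`

In a group without an `SL(2,p)` section, `p` odd, the normalizer of `Z(J(S))` controls strong
fusion in `S`, for both versions of the Thompson subgroup.
-/

set_option autoImplicit false

namespace Cfsg.Agent.Lib.ZJ

open Subgroup Cfsg.Agent.Lib.PGroups

universe u

/-- `Z(J(Q))`, elementary version, as a functor. -/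
def zjE (p : ℕ) (Q : Type u) [Group Q] : Subgroup Q :=
  Cfsg.thompsonSubgroup p Q ⊓ centralizer (Cfsg.thompsonSubgroup p Q : Set Q)

/-- `Z(J(Q))`, abelian version, as a functor. -/
def zjA (Q : Type u) [Group Q] : Subgroup Q :=
  Cfsg.thompsonSubgroupA Q ⊓ centralizer (Cfsg.thompsonSubgroupA Q : Set Q)

theorem inducedFunctor_zjE {G : Type u} [Group G] (p : ℕ) (P : Subgroup G) :
    Cfsg.inducedFunctor (fun Q _ => zjE p Q) P = Cfsg.centerThompsonOf p P :=
  map_inf_centralizer_of_injective _ P.subtype_injective _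

theorem inducedFunctor_zjA {G : Type u} [Group G] (P : Subgroup G) :
    Cfsg.inducedFunctor (fun Q _ => zjA Q) P = Cfsg.centerThompsonAOf P :=
  map_inf_centralizer_of_injective _ P.subtype_injective _

theorem thompsonSubgroupOf_top (p : ℕ) (Q : Type u) [Group Q] :
    Cfsg.thompsonSubgroupOf p (⊤ : Subgroup Q) = Cfsg.thompsonSubgroup p Q := by
  rw [thompsonSubgroupOf_eq, Cfsg.thompsonSubgroup]
  congr 1
  ext A
  exact ⟨fun h => ⟨h.2.1, fun B hB => h.2.2 B le_top hB⟩,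
    fun h => ⟨le_top, h.1, fun B _ hB => h.2 B hB⟩⟩

theorem thompsonSubgroupAOf_top (Q : Type u) [Group Q] :
    Cfsg.thompsonSubgroupAOf (⊤ : Subgroup Q) = Cfsg.thompsonSubgroupA Q := by
  rw [thompsonSubgroupAOf_eq, Cfsg.thompsonSubgroupA]
  congr 1
  ext A
  exact ⟨fun h => ⟨h.2.1, fun B hB => h.2.2 B le_top hB⟩,
    fun h => ⟨le_top, h.1, fun B _ hB => h.2 B hB⟩⟩

theorem zjE_eq (p : ℕ) (Q : Type u) [Group Q] :
    zjE p Q = Cfsg.centerThompsonOf p (⊤ : Subgroup Q) := by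
  rw [zjE, Cfsg.centerThompsonOf, thompsonSubgroupOf_top]

theorem zjA_eq (Q : Type u) [Group Q] :
    zjA Q = Cfsg.centerThompsonAOf (⊤ : Subgroup Q) := by
  rw [zjA, Cfsg.centerThompsonAOf, thompsonSubgroupAOf_top]

theorem isCharPFunctor_zjE (p : ℕ) [Fact p.Prime] :
    Cfsg.IsCharPFunctor.{u} p (fun Q _ => zjE p Q) := by
  refine ⟨fun Q _ _ hQ hnt h => ?_, fun Q R _ _ _ _ φ => ?_⟩ <;> beta_reduce at *
  · have hc := hQ.center_nontrivial
    have hne : Subgroup.center Q ≠ ⊥ := (Subgroup.nontrivial_iff_ne_bot _).1 hc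
    obtain ⟨x, hx, hox⟩ := exists_orderOf_eq_prime_of_ne_bot (hQ.to_subgroup _) hne
    have hmem := mem_centerThompsonOf_of_center (P := (⊤ : Subgroup Q)) (p := p) (x := x) trivial
      (fun y _ => (Subgroup.mem_center_iff.1 hx y).symm) (hox ▸ pow_orderOf_eq_one x)
    rw [← zjE_eq, h, Subgroup.mem_bot] at hmem
    rw [hmem, orderOf_one] at hox
    exact (Fact.out : p.Prime).ne_one hox.symm
  · rw [zjE_eq, zjE_eq, map_centerThompsonOf _ φ.injective,
      Subgroup.map_top_of_surjective _ φ.surjective]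

theorem isCharPFunctor_zjA (p : ℕ) [Fact p.Prime] :
    Cfsg.IsCharPFunctor.{u} p (fun Q _ => zjA Q) := by
  refine ⟨fun Q _ _ hQ hnt h => ?_, fun Q R _ _ _ _ φ => ?_⟩ <;> beta_reduce at *
  · have hc := hQ.center_nontrivial
    have hne : Subgroup.center Q ≠ ⊥ := (Subgroup.nontrivial_iff_ne_bot _).1 hc
    obtain ⟨x, hx, hox⟩ := exists_orderOf_eq_prime_of_ne_bot (hQ.to_subgroup _) hne
    obtain ⟨A, hA⟩ := maxAbIn_nonempty (⊤ : Subgroup Q)
    have hxJ : ∀ A ∈ maxAbIn (⊤ : Subgroup Q), x ∈ A := fun A hA =>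
      mem_of_maxAbIn hA trivial fun a _ => Subgroup.mem_center_iff.1 hx a
    have hmem : x ∈ Cfsg.centerThompsonAOf (⊤ : Subgroup Q) :=
      ⟨le_thompsonSubgroupAOf hA (hxJ A hA), fun y _ => Subgroup.mem_center_iff.1 hx y⟩
    rw [← zjA_eq, h, Subgroup.mem_bot] at hmem
    rw [hmem, orderOf_one] at hox
    exact (Fact.out : p.Prime).ne_one hox.symm
  · rw [zjA_eq, zjA_eq, map_centerThompsonAOf _ φ.injective,
      Subgroup.map_top_of_surjective _ φ.surjective]

variable {p : ℕ} [Fact p.Prime]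

open Cfsg.Agent.Lib.ConjFunctor in
/-- A functor normal in all constrained sections without `SL(2,p)` controls strong fusion in
groups without `SL(2,p)`. -/
theorem exists_conj_of_functor {G : Type u} [Group G] [Finite G]
    (hG : PLocal.NoSLTwo p G) (W : ∀ (Q : Type u) [Group Q], Subgroup Q)
    (hW : Cfsg.IsCharPFunctor.{u} p W)
    (hn : ∀ (X : Type u) [Group X] [Finite X], PLocal.NoSLTwo p X →
      centralizer (Cfsg.pCore p X : Set X) ≤ Cfsg.pCore p X →
      ∀ T : Sylow p X, (Cfsg.inducedFunctor W (T : Subgroup X)).Normal)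
    (S : Sylow p G) {A : Set G} (hA : A ⊆ (S : Set G)) {g : G}
    (hgA : (fun a => g * a * g⁻¹) '' A ⊆ (S : Set G)) :
    ∃ n ∈ normalizer (Cfsg.inducedFunctor W (S : Subgroup G) : Set G),
      ∀ a ∈ A, n * a * n⁻¹ = g * a * g⁻¹ := by
  have h𝓦 : ∀ V ∈ ({W} : Set (∀ (Q : Type u) [Group Q], Subgroup Q)),
      Cfsg.IsCharPFunctor.{u} p V := by
    rintro V rfl; exact hW
  have hsf := Reduce.sf_main (G := G) h𝓦 (fun X _ _ hX hc T B x _ hB hxB => by
    refine Reach.Chain.single (Local.mem_stepSet_nFam.2 ⟨_, ⟨W, rfl, rfl⟩, trivial, ?_⟩) hB hxB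
    obtain ⟨K, f, hf⟩ := hX
    have := hn X (PLocal.noSLTwo_of_surjective (PLocal.noSLTwo_subgroup hG K) f hf) hc T
    rw [Subgroup.normalizer_eq_top]
    trivial) G (Section.IsSection.refl G) S
  exact (hsf A g trivial hA hgA).collapse fun y hy => by
    obtain ⟨V, hV, hy⟩ := Local.mem_stepSet_nFam.1 hy
    obtain ⟨_, rfl, rfl⟩ := hV
    exact hy.2

/-- Glauberman's theorem, elementary abelian Thompson subgroup. -/
theorem exists_conj_centerThompsonOf {G : Type u} [Group G] [Finite G] (hp2 : p ≠ 2)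
    (hG : PLocal.NoSLTwo p G) (S : Sylow p G) {A : Set G} (hA : A ⊆ (S : Set G)) {g : G}
    (hgA : (fun a => g * a * g⁻¹) '' A ⊆ (S : Set G)) :
    ∃ n ∈ normalizer (Cfsg.centerThompsonOf p (S : Subgroup G) : Set G),
      ∀ a ∈ A, n * a * n⁻¹ = g * a * g⁻¹ := by
  rw [← inducedFunctor_zjE]
  exact exists_conj_of_functor hG _ (isCharPFunctor_zjE p)
    (fun X _ _ hX hc T => by
      rw [inducedFunctor_zjE]
      exact centerThompsonOf_normal hp2 hc (stable_of_noSLTwo hp2 hX) T) S hA hgA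

/-- Glauberman's theorem, abelian Thompson subgroup. -/
theorem exists_conj_centerThompsonAOf {G : Type u} [Group G] [Finite G] (hp2 : p ≠ 2)
    (hG : PLocal.NoSLTwo p G) (S : Sylow p G) {A : Set G} (hA : A ⊆ (S : Set G)) {g : G}
    (hgA : (fun a => g * a * g⁻¹) '' A ⊆ (S : Set G)) :
    ∃ n ∈ normalizer (Cfsg.centerThompsonAOf (S : Subgroup G) : Set G),
      ∀ a ∈ A, n * a * n⁻¹ = g * a * g⁻¹ := by
  rw [← inducedFunctor_zjA]
  exact exists_conj_of_functor hG _ (isCharPFunctor_zjA p)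
    (fun X _ _ hX hc T => by
      rw [inducedFunctor_zjA]
      exact centerThompsonAOf_normal hp2 hc (stable_of_noSLTwo hp2 hX) T) S hA hgA

end Cfsg.Agent.Lib.ZJ
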