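import Cfsg.Agent.Lib.ZJ.Control
import Cfsg.Agent.Lib.Frobenius.PComplement
import Cfsg.Agent.Lib.Coprime.Glauberman

/-!
# The Glauberman–Thompson normal `p`-complement theorem

If `W` is a functor that is normal in constrained groups without an `SL(2,p)` section and
`N(W P)` has a normal `p`-complement, `p` odd, then so has the group.  Thompson's criterion gives a
nontrivial `p`-core in a smallest counterexample; the quotient by it then has a normal
`p`-complement with abelian Sylow `2`-subgroups, so there is no `SL(2,p)` section.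
-/

set_option autoImplicit false

namespace Cfsg.Agent.Lib.ZJ.PComplement

open Subgroup
open Cfsg.Agent.Lib.Transfer.PResidual
open Cfsg.Agent.Lib.Frobenius.PComplement
open Cfsg.Agent.Lib.ConjFunctor

universe u

variable {p : ℕ} [hp : Fact p.Prime]

/-- The inductive step. -/
theorem step {G : Type u} [Group G] [Finite G] (hp2 : p ≠ 2)
    (W : ∀ (Q : Type u) [Group Q], Subgroup Q) (hW : Cfsg.IsCharPFunctor.{u} p W)
    (hn : PLocal.NoSLTwo p G → centralizer (Cfsg.pCore p G : Set G) ≤ Cfsg.pCore p G →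
      ∀ T : Sylow p G, (Cfsg.inducedFunctor W (T : Subgroup G)).Normal)
    (P : Sylow p G)
    (hP : Cfsg.HasNormalPComplement p (normalizer (Cfsg.inducedFunctor W (P : Subgroup G) : Set G)))
    (hsub : ∀ H : Subgroup G, H ≠ ⊤ → ∀ S : Sylow p H,
      Cfsg.HasNormalPComplement p (normalizer (Cfsg.inducedFunctor W (S : Subgroup H) : Set H)) →
      Cfsg.HasNormalPComplement p H)
    (hquot : ∀ (N : Subgroup G) [N.Normal], N ≠ ⊥ → ∀ S : Sylow p (G ⧸ N),
      Cfsg.HasNormalPComplement p
        (normalizer (Cfsg.inducedFunctor W (S : Subgroup (G ⧸ N)) : Set (G ⧸ N))) →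
      Cfsg.HasNormalPComplement p (G ⧸ N)) :
    Cfsg.HasNormalPComplement p G := by
  classical
  by_contra hG
  have hWc := Section.isConjugacyFunctor_induced hW (X := G)
  -- proper overgroups of `P`
  have hover : ∀ L : Subgroup G, (P : Subgroup G) ≤ L → L ≠ ⊤ →
      Cfsg.HasNormalPComplement p L := by
    intro L hPL hL
    refine hsub L hL (P.subtype hPL) (hnpc_of_map_le L.subtype L.subtype_injective ?_ hP)
    refine (Section.map_normalizer_le L.subtype _).trans (le_of_eq ?_)
    rw [← Section.map_inducedFunctor_of_injective hW L.subtype L.subtype_injective _ (P.subtype hPL).2,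
      Sylow.coe_subtype, Subgroup.subgroupOf_map_subtype, inf_eq_left.mpr hPL]
  -- no normal `p'`-subgroup
  have hO' : Cfsg.pPrimeCore p G = ⊥ := by
    by_contra hne
    apply hG
    set M := Cfsg.pPrimeCore p G
    set f := QuotientGroup.mk' M
    have hM : ¬ p ∣ Nat.card M := Cores.not_dvd_card_pPrimeCore p
    refine hasNormalPComplement_of_quotient_pPrime hM
      (hquot M hne (P.mapSurjective (QuotientGroup.mk'_surjective M)) ?_)
    have hinj : (P : Subgroup G) ⊓ f.ker = ⊥ := by
      rw [QuotientGroup.ker_mk', eq_bot_iff]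
      intro x hx
      exact Subgroup.mem_bot.mpr
        (Subgroup.disjoint_def.mp (disjoint_of_not_dvd hM P.2) hx.2 hx.1)
    have hkerM : ¬ p ∣ Nat.card f.ker := by rwa [QuotientGroup.ker_mk']
    rw [Sylow.coe_mapSurjective, Section.map_inducedFunctor hW f _ P.2 hinj]
    refine hnpc_map f (le_of_eq ?_) hP
    rw [Balance.map_normalizer_eq (QuotientGroup.mk'_surjective M) hkerM
      (P.2.to_le (Basic.w_le hWc P.2))]
  -- the p-core is nontrivial
  have hP0 : (P : Subgroup G) ≠ ⊥ := by
    intro h
    refine hG (hnpc_of_top_le ?_ hP)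
    have : Cfsg.inducedFunctor W (P : Subgroup G) = ⊥ :=
      le_bot_iff.1 ((Basic.w_le hWc P.2).trans h.le)
    rw [this]
    exact (Subgroup.normalizer_eq_top (⊥ : Subgroup G)).ge
  have hQ1 : Cfsg.pCore p G ≠ ⊥ := by
    intro h
    apply hG
    refine hasNormalPComplement_of_thompson hp2 P ⟨hover _ ?_ ?_, hover _ ?_ ?_⟩
    · exact le_normalizer.trans (PGroups.normalizer_le_normalizer_thompson _)
    · intro ht
      have := Subgroup.normalizer_eq_top_iff.mp ht
      exact thompsonSubgroupOf_ne_bot P.2 hP0 (le_bot_iff.mp (h ▸ Cores.le_pCore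
        (P.2.to_le (PGroups.thompsonSubgroupOf_le p _))))
    · intro x hx
      exact Subgroup.mem_centralizer_iff.mpr fun z hz =>
        (Subgroup.mem_centralizer_iff.mp hz.2 x hx).symm
    · intro ht
      have hn : ((P : Subgroup G) ⊓ centralizer ((P : Subgroup G) : Set G)).Normal :=
        ⟨fun z hz g => by
          have : g ∈ centralizer (((P : Subgroup G) ⊓ centralizer ((P : Subgroup G) : Set G) :
              Subgroup G) : Set G) := ht.ge (Subgroup.mem_top g)
          rwa [← Subgroup.mem_centralizer_iff.mp this z hz, mul_inv_cancel_right]⟩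
      exact inf_centralizer_ne_bot P.2 hP0
        (le_bot_iff.mp (h ▸ Cores.le_pCore (P.2.to_le inf_le_left)))
  set Q := Cfsg.pCore p G with hQdef
  have hQp : IsPGroup p Q := Cores.pCore_isPGroup p
  have hQP : Q ≤ (P : Subgroup G) := Cores.pCore_le_sylow P
  have hQne : Q ≠ (P : Subgroup G) := by
    intro h
    refine hG (hnpc_of_top_le ?_ hP)
    refine le_trans ?_ (Basic.normalizer_le_normalizer_w hWc P.2)
    rw [← h, Subgroup.normalizer_eq_top]
  set f := QuotientGroup.mk' Q
  have hfs : Function.Surjective f := QuotientGroup.mk'_surjective Q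
  set Pb : Sylow p (G ⧸ Q) := P.mapSurjective hfs
  have hPb : (Pb : Subgroup (G ⧸ Q)) = (P : Subgroup G).map f := Sylow.coe_mapSurjective hfs P
  have hPbne : (Pb : Subgroup (G ⧸ Q)) ≠ ⊥ := by
    rw [hPb, Ne, Subgroup.map_eq_bot_iff, QuotientGroup.ker_mk']
    exact fun h => hQne (le_antisymm hQP h)
  have hcore : Cfsg.pCore p (G ⧸ Q) = ⊥ := Cores.pCore_quotient_pCore p
  have hGb : Cfsg.HasNormalPComplement p (G ⧸ Q) := by
    have hWb := Section.isConjugacyFunctor_induced hW (X := G ⧸ Q)
    set N := normalizer (Cfsg.inducedFunctor W (Pb : Subgroup (G ⧸ Q)) : Set (G ⧸ Q)) with hN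
    refine hquot Q hQ1 Pb (hnpc_map f (A := N.comap f)
      (by rw [Subgroup.map_comap_eq_self_of_surjective hfs]) (hover _ ?_ ?_))
    · rw [← Subgroup.map_le_iff_le_comap, ← hPb]
      exact Basic.le_normalizer_w hWb Pb.2
    · intro h
      have hNt : N = ⊤ := by
        rw [← Subgroup.map_comap_eq_self_of_surjective hfs N, h,
          Subgroup.map_top_of_surjective f hfs]
      have := Subgroup.normalizer_eq_top_iff.mp hNt
      exact Basic.w_ne_bot hWb Pb.2 hPbne (le_bot_iff.mp (hcore ▸ Cores.le_pCore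
        (Pb.2.to_le (Basic.w_le hWb Pb.2))))
  set K := Cfsg.pResidual p (G ⧸ Q) with hKdef
  have hKp : ¬ p ∣ Nat.card K := hasNormalPComplement_iff_not_dvd.mp hGb
  have hsol : Cfsg.IsPSolvable p G :=
    PSolvable.isPSolvable_of_extension Q (PSolvable.isPSolvable_of_isPGroup hQp)
      (PSolvable.isPSolvable_of_extension K
        (PSolvable.isPSolvable_of_coprime (hp.out.coprime_iff_not_dvd.mpr hKp).symm)
        (PSolvable.isPSolvable_of_isPGroup isPGroup_quotient))
  have hCQ : centralizer (Q : Set G) ≤ Q := PSolvable.centralizer_pCore_le hsol hO'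
  -- a proper subgroup of `K` normalised by the Sylow subgroup is trivial
  have hY : ∀ Y : Subgroup (G ⧸ Q), Y ≤ K → (Pb : Subgroup (G ⧸ Q)) ⊔ Y ≠ ⊤ → Y = ⊥ := by
    intro Y hYK hne
    set L := ((Pb : Subgroup (G ⧸ Q)) ⊔ Y).comap f
    have hPL : (P : Subgroup G) ≤ L :=
      Subgroup.map_le_iff_le_comap.1 (hPb ▸ le_sup_left)
    have hLne : L ≠ ⊤ := fun h => hne (by
      rw [← Subgroup.map_comap_eq_self_of_surjective hfs ((Pb : Subgroup (G ⧸ Q)) ⊔ Y)]
      change L.map f = ⊤
      rw [h, Subgroup.map_top_of_surjective f hfs])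
    have hLc := hover L hPL hLne
    have hres : ∀ x : G, x ∈ L → (orderOf x).Coprime p → x = 1 := by
      intro x hx hxp
      have hxC : x ∈ centralizer (Q : Set G) := by
        have h1 := Transfer.Frobenius.mem_centralizer_of_hasNormalPComplement hLc
          (Q := Q.subgroupOf L) hQp.comap_subtype (g := ⟨x, hx⟩)
          (by rw [Subgroup.normalizer_eq_top]; trivial)
          (by rwa [Subgroup.orderOf_mk])
        exact fun y hy => congrArg Subtype.val
          (Subgroup.mem_centralizer_iff.mp h1 ⟨y, hPL (hQP hy)⟩ hy)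
      exact congrArg Subtype.val
        (eq_one_of_pGroup_of_coprime hQp (a := (⟨x, hCQ hxC⟩ : Q)) (by rwa [Subgroup.orderOf_mk]))
    have hLp : IsPGroup p L := by
      rw [IsPGroup.iff_orderOf]
      intro x
      obtain ⟨a, b, ha, hb, hab, -, ⟨k, hk⟩, hbp⟩ :=
        exists_pPart_mul_pPrimePart (p := p) x (isOfFinOrder_of_finite x)
      have hb1 : (b : G) = 1 := hres b b.2 (by rwa [Subgroup.orderOf_coe])
      rw [show b = 1 from Subtype.ext hb1, mul_one] at hab
      subst hab
      obtain ⟨i, -, hi⟩ := (Nat.dvd_prime_pow hp.out).mp (orderOf_dvd_of_pow_eq_one hk)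
      exact ⟨i, hi⟩
    have hYP : IsPGroup p Y := by
      refine (hLp.map f).to_le ?_
      change Y ≤ L.map f
      rw [Subgroup.map_comap_eq_self_of_surjective hfs]
      exact le_sup_right
    obtain ⟨k, hk⟩ := IsPGroup.iff_card.mp hYP
    rw [← Subgroup.card_eq_one, hk]
    rcases Nat.eq_zero_or_pos k with h0 | h0
    · rw [h0, pow_zero]
    · exact absurd ((hk ▸ dvd_pow_self p h0.ne').trans (Subgroup.card_dvd_of_le hYK)) hKp
  -- the `2`-elements of `K` commute
  obtain ⟨W₂, hW₂⟩ : ∃ W₂ : Sylow 2 K, (Pb : Subgroup (G ⧸ Q)) ≤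
      normalizer (((W₂ : Subgroup K).map K.subtype : Subgroup (G ⧸ Q)) : Set (G ⧸ Q)) := by
    refine Coprime.exists_invariant_sylow (by rw [Subgroup.normalizer_eq_top]; exact le_top)
      ?_ (Or.inl (Coprime.isSolvable_of_isPGroup Pb.2)) 2
    obtain ⟨k, hk⟩ := IsPGroup.iff_card.mp Pb.2
    rw [hk]
    exact (hp.out.coprime_iff_not_dvd.mpr hKp).pow_left k
  have hK2 : ∀ x ∈ K, ∀ y ∈ K, (∃ i, orderOf x = 2 ^ i) → (∃ i, orderOf y = 2 ^ i) →
      x * y = y * x := by
    set W' : Subgroup (G ⧸ Q) := (W₂ : Subgroup K).map K.subtype with hW'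
    have hW'K : W' ≤ K := Subgroup.map_subtype_le _
    by_cases htop : (Pb : Subgroup (G ⧸ Q)) ⊔ W' = ⊤
    · -- `K` is an abelian `2`-group
      have hWK : W' = K := by
        refine Subgroup.eq_of_le_of_card_ge hW'K (le_of_eq ?_)
        have hW'p : ¬ p ∣ Nat.card W' := fun h => hKp (h.trans (Subgroup.card_dvd_of_le hW'K))
        have h1 := Coprime.card_sup_of_disjoint hW₂ (disjoint_of_not_dvd hW'p Pb.2).symm
        rw [htop, Subgroup.card_top, ← (isComplement'_pResidual hGb Pb).card_mul_card,
          mul_comm] at h1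
        exact Nat.eq_of_mul_eq_mul_left Nat.card_pos h1
      have hK2g : IsPGroup 2 K := hWK ▸ W₂.2.map _
      have : Group.IsNilpotent K := hK2g.isNilpotent
      have hD : (Pb : Subgroup (G ⧸ Q)) ⊔ ⁅K, K⁆ ≠ ⊤ := by
        intro h
        have hne : K ≠ ⊥ := by
          intro h0
          rw [h0] at h hW'K
          rw [le_bot_iff.1 hW'K, sup_bot_eq] at htop
          have : (Pb : Subgroup (G ⧸ Q)).Normal := by rw [htop]; infer_instance
          exact hPbne (le_bot_iff.mp (hcore ▸ Cores.le_pCore Pb.2))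
        have hDp : ¬ p ∣ Nat.card ↥⁅K, K⁆ := fun h' =>
          hKp (h'.trans (Subgroup.card_dvd_of_le (Subgroup.commutator_le_self K)))
        have hDn : (Pb : Subgroup (G ⧸ Q)) ≤ normalizer ((⁅K, K⁆ : Subgroup (G ⧸ Q)) : Set (G ⧸ Q)) := by
          rw [Subgroup.normalizer_eq_top_iff.mpr inferInstance]; exact le_top
        have h1 := Coprime.card_sup_of_disjoint hDn (disjoint_of_not_dvd hDp Pb.2).symm
        rw [h, Subgroup.card_top, ← (isComplement'_pResidual hGb Pb).card_mul_card, mul_comm] at h1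
        have heq := Subgroup.eq_of_le_of_card_ge (Subgroup.commutator_le_self K)
          (Nat.eq_of_mul_eq_mul_left Nat.card_pos h1).le
        have : Group.IsPerfect K := Subgroup.isPerfect_iff.mpr heq
        have : Nontrivial K := (Subgroup.nontrivial_iff_ne_bot K).mpr hne
        exact Group.IsPerfect.not_isSolvable K inferInstance
      have hD0 := hY _ (Subgroup.commutator_le_self K) hD
      exact fun x hx y hy _ _ => commutatorElement_eq_one_iff_mul_comm.mp
        (Subgroup.mem_bot.mp (hD0 ▸ Subgroup.commutator_mem_commutator hx hy))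
    · -- `K` has odd order
      have hW0 := hY W' hW'K htop
      intro x hx y _ hxo _
      obtain ⟨i, hi⟩ := hxo
      have hodd : ¬ 2 ∣ Nat.card K := by
        intro h
        have h1 : (W₂ : Subgroup K) = ⊥ :=
          (Subgroup.map_eq_bot_iff_of_injective _ K.subtype_injective).1 hW0
        have h2 := W₂.not_dvd_index
        rw [h1, Subgroup.index_bot] at h2
        exact h2 h
      have : orderOf x = 1 := by
        rcases Nat.eq_zero_or_pos i with h0 | h0
        · rw [hi, h0, pow_zero]
        · refine absurd (?_ : 2 ∣ Nat.card K) hodd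
          have := orderOf_dvd_natCard (⟨x, hx⟩ : K)
          rw [Subgroup.orderOf_mk, hi] at this
          exact (dvd_pow_self 2 h0.ne').trans this
      rw [orderOf_eq_one_iff.1 this, one_mul, mul_one]
  -- no `SL(2,p)` section
  obtain ⟨T⟩ : Nonempty (Sylow 2 G) := inferInstance
  have hTc : IsMulCommutative (T : Subgroup G) := by
    refine mulComm_of_comm fun x hx y hy => ?_
    have h2 : ∀ t ∈ (T : Subgroup G), (∃ i, orderOf (f t) = 2 ^ i) ∧ f t ∈ K := by
      intro t ht
      obtain ⟨i, hi⟩ := IsPGroup.iff_orderOf.1 T.2 ⟨t, ht⟩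
      rw [Subgroup.orderOf_mk] at hi
      have hd : orderOf (f t) ∣ 2 ^ i := hi ▸ orderOf_map_dvd f t
      obtain ⟨j, -, hj⟩ := (Nat.dvd_prime_pow Nat.prime_two).1 hd
      refine ⟨⟨j, hj⟩, mem_pResidual ?_⟩
      rw [hj]
      exact ((Nat.coprime_primes Nat.prime_two hp.out).2 (Ne.symm hp2)).pow_left j
    have hc := hK2 _ (h2 x hx).2 _ (h2 y hy).2 (h2 x hx).1 (h2 y hy).1
    rw [← map_mul, ← map_mul] at hc
    have hmem : (x * y)⁻¹ * (y * x) ∈ Q := QuotientGroup.eq.1 hc
    have hmemT : (x * y)⁻¹ * (y * x) ∈ (T : Subgroup G) :=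
      mul_mem (inv_mem (mul_mem hx hy)) (mul_mem hy hx)
    have hdis : Disjoint Q (T : Subgroup G) :=
      disjoint_of_not_dvd (p := 2) (fun h => by
        obtain ⟨k, hk⟩ := IsPGroup.iff_card.mp hQp
        exact hp2 ((Nat.prime_dvd_prime_iff_eq Nat.prime_two hp.out).1
          (Nat.prime_two.dvd_of_dvd_pow (hk ▸ h))).symm) T.2
    exact inv_mul_eq_one.1 (Subgroup.disjoint_def.mp hdis hmem hmemT)
  have := hn (PLocal.noSLTwo_of_abelian_sylow_two hp2 T hTc) hCQ P
  refine hG (hnpc_of_top_le ?_ hP)
  rw [Subgroup.normalizer_eq_top]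

/-- The Glauberman–Thompson theorem for a functor. -/
theorem hasNormalPComplement_of_functor (hp2 : p ≠ 2)
    (W : ∀ (Q : Type u) [Group Q], Subgroup Q) (hW : Cfsg.IsCharPFunctor.{u} p W)
    (hn : ∀ (X : Type u) [Group X] [Finite X], PLocal.NoSLTwo p X →
      centralizer (Cfsg.pCore p X : Set X) ≤ Cfsg.pCore p X →
      ∀ T : Sylow p X, (Cfsg.inducedFunctor W (T : Subgroup X)).Normal)
    {G : Type u} [Group G] [Finite G] (P : Sylow p G)
    (hP : Cfsg.HasNormalPComplement p
      (normalizer (Cfsg.inducedFunctor W (P : Subgroup G) : Set G))) :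
    Cfsg.HasNormalPComplement p G := by
  induction hc : Nat.card G using Nat.strong_induction_on generalizing G with
  | _ m ih =>
    subst hc
    exact step hp2 W hW (hn G) P hP
      (fun H hH S hS => ih _ (Reduce.card_subgroup_lt hH) S hS rfl)
      (fun N _ hN S hS => ih _ (Reduce.card_quotient_lt hN) S hS rfl)

/-- The same, with the normality of `W` asked only in the sections of `G`. -/
theorem hasNormalPComplement_of_functor_sections (hp2 : p ≠ 2)
    (W : ∀ (Q : Type u) [Group Q], Subgroup Q) (hW : Cfsg.IsCharPFunctor.{u} p W)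
    {G : Type u} [Group G] [Finite G]
    (hn : ∀ (X : Type u) [Group X] [Finite X], Section.IsSection X G → PLocal.NoSLTwo p X →
      centralizer (Cfsg.pCore p X : Set X) ≤ Cfsg.pCore p X →
      ∀ T : Sylow p X, (Cfsg.inducedFunctor W (T : Subgroup X)).Normal)
    (P : Sylow p G)
    (hP : Cfsg.HasNormalPComplement p
      (normalizer (Cfsg.inducedFunctor W (P : Subgroup G) : Set G))) :
    Cfsg.HasNormalPComplement p G := by
  suffices h : ∀ (m : ℕ) (X : Type u) [Group X] [Finite X], Nat.card X = m → Section.IsSection X G →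
      ∀ S : Sylow p X, Cfsg.HasNormalPComplement p
        (normalizer (Cfsg.inducedFunctor W (S : Subgroup X) : Set X)) →
      Cfsg.HasNormalPComplement p X from h _ G rfl (Section.IsSection.refl G) P hP
  intro m
  induction m using Nat.strong_induction_on with
  | _ m ih =>
    intro X _ _ hm hX S hS
    subst hm
    exact step hp2 W hW (hn X hX) S hS
      (fun H hH S hS => ih _ (Reduce.card_subgroup_lt hH) H rfl (hX.subgroup H) S hS)
      (fun N _ hN S hS => ih _ (Reduce.card_quotient_lt hN) _ rfl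
        (hX.quotient (QuotientGroup.mk' N) (QuotientGroup.mk'_surjective N)) S hS)

end Cfsg.Agent.Lib.ZJ.PComplement
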