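import Cfsg.Agent.Lib.ZJ.StableSection
import Cfsg.Agent.Lib.ZJ.Control
import Cfsg.Prelude.Def_EvenType

/-!
# Control of fusion by `N(Z(J(S)))` in `p`-stable groups

In a group that is `p`-stable in the normalizer form, `p` odd, the normalizer of `Z(J(S))`
(abelian version) controls strong fusion in `S`.
-/

set_option autoImplicit false

namespace Cfsg.Agent.Lib.ZJ

open Cfsg.Agent.Lib.ConjFunctor
open scoped commutatorElement

universe u

variable {p : ℕ} [hp : Fact p.Prime]

/-- Stability on a normal `p`-subgroup. -/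
theorem Stable.isPStableOn {G : Type u} [Group G] [Finite G] (hG : Stable p G) (V : Subgroup G)
    [V.Normal] (hV : IsPGroup p V) : Cfsg.IsPStableOn p V := by
  intro a ha
  set N := Subgroup.normalizer (V : Set G) with hN
  have hNt : N = ⊤ := Subgroup.normalizer_eq_top_iff.2 inferInstance
  have hmem : ∀ x, x ∈ N := fun x => by rw [hNt]; trivial
  obtain ⟨D, hD, haD, hDj⟩ := hG V hV a (hmem a)
    (Quadratic.quad_of_commutator_eq_bot ha)
  set C := Subgroup.centralizer (V : Set G) with hC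
  refine (Quadratic.inPRad_iff C a).1 ⟨D.map N.subtype, ?_, ⟨_, haD, rfl⟩, ?_⟩
  · exact hD.map N.subtype fun z => ⟨⟨z, hmem z⟩, rfl⟩
  · rintro _ ⟨d, hd, rfl⟩
    obtain ⟨k, hk⟩ := hDj d hd
    exact ⟨k, hk⟩

/-- The set of functors used. -/
def zjSet : Set (∀ (Q : Type u) [Group Q], Subgroup Q) :=
  {W | W = fun Q [Group Q] => zjA Q}

theorem sf_stable (hp2 : p ≠ 2) (X : Type u) [Group X] [Finite X] (hX : Stable p X) :
    Section.SF zjSet p X := by
  have h𝓦 : ∀ W ∈ (zjSet : Set (∀ (Q : Type u) [Group Q], Subgroup Q)),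
      Cfsg.IsCharPFunctor.{u} p W := by
    rintro W rfl; exact isCharPFunctor_zjA p
  induction hn : Nat.card X using Nat.strong_induction_on generalizing X with
  | _ n ih =>
    subst hn
    refine Reduce.sf_step' h𝓦
      (fun H hH => ih _ (Reduce.card_subgroup_lt hH) H (stable_subgroup hX H) rfl)
      (fun h => ih _ (Reduce.card_quotient_lt h) _
        (stable_quotient_prime' hX _ (Cores.not_dvd_card_pPrimeCore p)) rfl)
      (fun h S hS => ih _ (Reduce.card_quotient_lt h) _
        (stable_quotient_central hp2 hX _ (Cores.pCore_isPGroup p) ?_) rfl) ?_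
    · intro x hx b hb
      set C := Subgroup.centralizer (Cfsg.pCore p X : Set X) with hC
      haveI : C.Normal := Reduce.centralizer_normal _
      have hpq : IsPGroup p (X ⧸ C) := by
        have h1 := S.2.map (QuotientGroup.mk' C)
        have h2 : (S : Subgroup X).map (QuotientGroup.mk' C) = ⊤ := by
          rw [← Subgroup.map_top_of_surjective _ (QuotientGroup.mk'_surjective C), ← hS,
            Subgroup.map_sup, QuotientGroup.map_mk'_self, sup_bot_eq]
        rw [h2] at h1
        exact h1.of_equiv Subgroup.topEquiv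
      have hxC : x ∈ C := (QuotientGroup.eq_one_iff x).1
        (Transfer.PResidual.eq_one_of_pGroup_of_coprime hpq
          (hx.coprime_dvd_left (orderOf_map_dvd (QuotientGroup.mk' C) x)))
      rw [← Subgroup.mem_centralizer_iff.1 hxC b hb, mul_inv_cancel_right]
    · intro hc T B x _ hB hxB
      refine Reach.Chain.single (Local.mem_stepSet_nFam.2 ⟨_, ⟨_, rfl, rfl⟩, trivial, ?_⟩) hB hxB
      have := centerThompsonAOf_normal hp2 hc (fun V _ hV => hX.isPStableOn V hV) T
      rw [← inducedFunctor_zjA] at this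
      rw [Subgroup.normalizer_eq_top_iff.2 this]
      trivial

/-- Glauberman's theorem for stable groups. -/
theorem exists_conj_centerThompsonAOf_stable {G : Type u} [Group G] [Finite G] (hp2 : p ≠ 2)
    (hG : Stable p G) (S : Sylow p G) {A : Set G} (hA : A ⊆ (S : Set G)) {g : G}
    (hgA : (fun a => g * a * g⁻¹) '' A ⊆ (S : Set G)) :
    ∃ n ∈ Subgroup.normalizer (Cfsg.centerThompsonAOf (S : Subgroup G) : Set G),
      ∀ a ∈ A, n * a * n⁻¹ = g * a * g⁻¹ := by
  rw [← inducedFunctor_zjA]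
  exact (sf_stable hp2 G hG S A g trivial hA hgA).collapse fun y hy => by
    obtain ⟨V, hV, hy⟩ := Local.mem_stepSet_nFam.1 hy
    obtain ⟨_, rfl, rfl⟩ := hV
    exact hy.2

/-- The normalizer form of `p`-stability gives `Stable`. -/
theorem stable_of_isNormalizerPStable {G : Type u} [Group G] [Finite G]
    (h : Cfsg.IsNormalizerPStable p G) : Stable p G := by
  intro P hP g hg hq
  refine (Quadratic.inPRad_iff _ _).2 (h P hP g hg ?_)
  rw [eq_bot_iff]
  have hfix : ∀ v ∈ P, ⁅v, g⁆ * g = g * ⁅v, g⁆ := fun v hv =>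
    commutatorElement_eq_one_iff_mul_comm.1 (hq v hv)
  have hj : ∀ (j : ℤ), ∀ v ∈ P, Commute ⁅v, g ^ j⁆ g := by
    intro j v hv
    have hgj : g ^ j ∈ Subgroup.normalizer (P : Set G) := zpow_mem hg j
    induction j using Int.induction_on with
    | zero => simp
    | succ i ih =>
      have hi : g ^ (i : ℤ) ∈ Subgroup.normalizer (P : Set G) := zpow_mem hg _
      have e : ⁅v, g ^ ((i : ℤ) + 1)⁆ = ⁅v, g⁆ * (g * ⁅v, g ^ (i : ℤ)⁆ * g⁻¹) := by
        rw [commutatorElement_def, commutatorElement_def, commutatorElement_def,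
          show g ^ ((i : ℤ) + 1) = g * g ^ (i : ℤ) from by rw [add_comm, zpow_one_add]]
        group
      rw [e, show g * ⁅v, g ^ (i : ℤ)⁆ * g⁻¹ = ⁅v, g ^ (i : ℤ)⁆ by
        rw [← (ih hi).eq, mul_inv_cancel_right]]
      exact (show Commute ⁅v, g⁆ g from hfix v hv).mul_left (ih hi)
    | pred i ih =>
      have hi : g ^ (-(i : ℤ)) ∈ Subgroup.normalizer (P : Set G) := zpow_mem hg _
      have e : ⁅v, g ^ (-(i : ℤ) - 1)⁆ = ⁅v, g⁻¹⁆ * (g⁻¹ * ⁅v, g ^ (-(i : ℤ))⁆ * g) := by
        rw [commutatorElement_def, commutatorElement_def, commutatorElement_def,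
          show g ^ (-(i : ℤ) - 1) = g⁻¹ * g ^ (-(i : ℤ)) from by
            rw [sub_eq_add_neg, add_comm, zpow_add, zpow_neg_one]]
        group
      rw [e, show g⁻¹ * ⁅v, g ^ (-(i : ℤ))⁆ * g = ⁅v, g ^ (-(i : ℤ))⁆ by
        rw [mul_assoc, (ih hi).eq, inv_mul_cancel_left]]
      refine Commute.mul_left ?_ (ih hi)
      have h1 : Commute ⁅v, g⁆ g := hfix v hv
      have e' : ⁅v, g⁻¹⁆ = g⁻¹ * ⁅v, g⁆⁻¹ * g := by
        rw [commutatorElement_def, commutatorElement_def]; group
      rw [e', show g⁻¹ * ⁅v, g⁆⁻¹ * g = ⁅v, g⁆⁻¹ by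
        rw [mul_assoc, h1.inv_left.eq, inv_mul_cancel_left]]
      exact h1.inv_left
  have h1 : ⁅P, Subgroup.zpowers g⁆ ≤ Subgroup.centralizer ({g} : Set G) := by
    rw [Subgroup.commutator_le]
    intro v hv y hy
    obtain ⟨j, rfl⟩ := Subgroup.mem_zpowers_iff.1 hy
    exact Subgroup.mem_centralizer_singleton_iff.2 (hj j v hv).eq
  rw [Subgroup.commutator_le]
  intro c hc y hy
  obtain ⟨j, rfl⟩ := Subgroup.mem_zpowers_iff.1 hy
  rw [Subgroup.mem_bot, commutatorElement_eq_one_iff_mul_comm]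
  exact ((show Commute c g from Subgroup.mem_centralizer_singleton_iff.1 (h1 hc)).zpow_right j).eq

end Cfsg.Agent.Lib.ZJ
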