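import Cfsg.Agent.Lib.ZJ.Stable
import Cfsg.Agent.Lib.PGroups.Omega

/-!
# The ZJ-theorem for the elementary abelian Thompson subgroup

For odd `p`, a group with `C(O_p) ≤ O_p` acting `p`-stably on its normal `p`-subgroups has
`Z(J(S))` and `Ω₁(Z(J(S)))` characteristic, `J(S)` generated by the elementary abelian subgroups
of largest order.  The proof shows by induction on `k` that the elements of `Z(J(S))` of order
dividing `p ^ k` form a normal subgroup.
-/

set_option autoImplicit false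

namespace Cfsg.Agent.Lib.ZJ

open Subgroup Cfsg.Agent.Lib.PGroups
open scoped commutatorElement

variable {G : Type*} [Group G]

/-- The elements of `Z(J(S))` of order dividing `p ^ k`. -/
def zjLayer (p : ℕ) (S : Subgroup G) (k : ℕ) : Subgroup G where
  carrier := {x | x ∈ Cfsg.centerThompsonOf p S ∧ x ^ (p ^ k) = 1}
  one_mem' := ⟨one_mem _, one_pow _⟩
  mul_mem' {x y} hx hy := ⟨mul_mem hx.1 hy.1, by
    rw [Commute.mul_pow ((Subgroup.mem_centralizer_iff.1 hx.1.2 y hy.1.1).symm), hx.2, hy.2,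
      one_mul]⟩
  inv_mem' {x} hx := ⟨inv_mem hx.1, by rw [inv_pow, hx.2, inv_one]⟩

theorem mem_zjLayer {p : ℕ} {S : Subgroup G} {k : ℕ} {x : G} :
    x ∈ zjLayer p S k ↔ x ∈ Cfsg.centerThompsonOf p S ∧ x ^ (p ^ k) = 1 := Iff.rfl

theorem layer_zero (p : ℕ) (S : Subgroup G) : zjLayer p S 0 = ⊥ := by
  rw [eq_bot_iff]
  intro x hx
  simpa [Subgroup.mem_bot] using hx.2

theorem map_layer {H : Type*} [Group H] (p : ℕ) (e : G ≃* H) (S : Subgroup G) (k : ℕ) :
    (zjLayer p S k).map e.toMonoidHom = zjLayer p (S.map e.toMonoidHom) k := by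
  ext y
  rw [mem_zjLayer, ← map_centerThompsonOf _ e.injective]
  constructor
  · rintro ⟨x, ⟨hx, hxk⟩, rfl⟩
    exact ⟨⟨x, hx, rfl⟩, by rw [← map_pow, hxk, map_one]⟩
  · rintro ⟨⟨x, hx, rfl⟩, hxk⟩
    refine ⟨x, ⟨hx, e.injective ?_⟩, rfl⟩
    rw [map_pow, map_one]
    exact hxk

variable {p : ℕ}

theorem center_comm {S : Subgroup G} {x y : G} (hx : x ∈ Cfsg.centerThompsonOf p S)
    (hy : y ∈ Cfsg.thompsonSubgroupOf p S) : y * x = x * y :=
  Subgroup.mem_centralizer_iff.1 hx.2 y hy

theorem sylow_le_normalizer_layer (S : Subgroup G) (k : ℕ) :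
    S ≤ normalizer (zjLayer p S k : Set G) := fun g hg => mem_normalizer_of_map_conj_eq (by
  rw [map_layer, map_conj_eq_of_mem_normalizer (le_normalizer hg)])

theorem normalizer_thompson_le_normalizer_layer (S : Subgroup G) (k : ℕ) :
    normalizer (Cfsg.thompsonSubgroupOf p S : Set G) ≤ normalizer (zjLayer p S k : Set G) := by
  intro g hg
  refine mem_normalizer_of_map_conj_eq ?_
  ext y
  have h := map_conj_eq_of_mem_normalizer (normalizer_thompson_le_normalizer_centerThompson S hg)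
  constructor
  · rintro ⟨x, ⟨hx, hxk⟩, rfl⟩
    exact ⟨h.le ⟨x, hx, rfl⟩, by rw [← map_pow, hxk, map_one]⟩
  · rintro ⟨hy, hyk⟩
    obtain ⟨x, hx, rfl⟩ := h.ge hy
    refine ⟨x, ⟨hx, (MulAut.conj g).injective ?_⟩, rfl⟩
    rw [map_pow, map_one]
    exact hyk

variable [Finite G] [hp : Fact p.Prime]

/-- An element of `S` of order dividing `p` commuting with a member of largest order lies in it. -/
theorem mem_of_maxElemAbIn {S A : Subgroup G} (hA : A ∈ maxElemAbIn p S) {x : G} (hxS : x ∈ S)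
    (hxp : x ^ p = 1) (hc : ∀ a ∈ A, a * x = x * a) : x ∈ A := by
  have hE : Cfsg.IsElementaryAbelian p (A ⊔ zpowers x) :=
    elemAb_sup hA.2.1 (elemAb_zpowers hxp) fun a ha b hb => by
      obtain ⟨i, rfl⟩ := hb
      exact Commute.zpow_right (hc a ha) i
  have := Subgroup.eq_of_le_of_card_ge (le_sup_left : A ≤ A ⊔ zpowers x)
    (hA.2.2 _ (sup_le hA.1 (zpowers_le.2 hxS)) hE)
  rw [this]
  exact mem_sup_right (mem_zpowers x)

theorem mem_of_center {S A : Subgroup G} (hA : A ∈ maxElemAbIn p S) {x : G}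
    (hx : x ∈ Cfsg.centerThompsonOf p S) (hxp : x ^ p = 1) : x ∈ A :=
  mem_of_maxElemAbIn hA (centerThompsonOf_le p S hx) hxp fun _ ha =>
    center_comm hx (le_thompsonSubgroupOf hA ha)

/-- The inductive step: if the elements of order dividing `p ^ k` form a normal subgroup, then the
intersection of the next zjLayer with every normal `p`-subgroup is normal. -/
theorem inf_layer_succ_normal (hp2 : p ≠ 2)
    (hst : ∀ (P : Subgroup G) [P.Normal], IsPGroup p P → Cfsg.IsPStableOn p P) (S : Sylow p G)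
    (k : ℕ) (hk : (zjLayer p (S : Subgroup G) k).Normal) (B : Subgroup G) [B.Normal]
    (hB : IsPGroup p B) : (B ⊓ zjLayer p (S : Subgroup G) (k + 1)).Normal := by
  induction hn : Nat.card B using Nat.strong_induction_on generalizing B with
  | _ m ih =>
  subst hn
  set J := Cfsg.thompsonSubgroupOf p (S : Subgroup G) with hJ
  set Y := zjLayer p (S : Subgroup G) (k + 1) with hY
  set X := B ⊓ Y with hX
  have IH : ∀ B' : Subgroup G, B'.Normal → B' < B → (B' ⊓ Y).Normal := fun B' hn hlt => by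
    have := hn
    refine ih _ ?_ B' (hB.to_le hlt.le) rfl
    exact (Subgroup.card_le_of_le hlt.le).lt_of_ne
      fun e => hlt.ne (Subgroup.eq_of_le_of_card_ge hlt.le e.ge)
  have hBS : B ≤ S := (Cores.le_pCore hB).trans (Cores.pCore_le_sylow S)
  -- we may assume that `B` is the normal closure of `X`
  have hB1le : normalClosure (X : Set G) ≤ B := normalClosure_le_normal fun x hx => hx.1
  rcases eq_or_ne (normalClosure (X : Set G)) B with hgen | hne
  swap
  · have hlt := lt_of_le_of_ne hB1le hne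
    have : X = normalClosure (X : Set G) ⊓ Y :=
      le_antisymm (le_inf subset_normalClosure inf_le_right) (inf_le_inf_right _ hB1le)
    rw [this]
    exact IH _ inferInstance hlt
  rcases eq_or_ne B ⊥ with hB0 | hB0
  · have : X = ⊥ := by rw [hX, hB0, bot_inf_eq]
    rw [this]; infer_instance
  have hgen' : B ≤ normalClosure (X : Set G) := hgen.ge
  -- the derived subgroup
  have hBnil : Group.IsNilpotent B := hB.isNilpotent
  have : Group.IsSolvable B := inferInstance
  have hDB : ⁅B, B⁆ < B := by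
    have : Nontrivial B := (Subgroup.nontrivial_iff_ne_bot B).2 hB0
    refine lt_of_le_of_ne (Subgroup.commutator_le_self B) fun he => ?_
    have h1 : (commutator B).map B.subtype = (⊤ : Subgroup B).map B.subtype := by
      rw [Subgroup.map_subtype_commutator, he, ← MonoidHom.range_eq_map, Subgroup.range_subtype]
    exact (Group.IsSolvable.commutator_lt_top_of_nontrivial B).ne
      (Subgroup.map_injective B.subtype_injective h1)
  have : ⁅B, B⁆.Normal := Subgroup.commutator_normal B B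
  have hWn := IH ⁅B, B⁆ inferInstance hDB
  have hDY : ⁅B, B⁆ ≤ Y := by
    refine (commutator_le_of_normalClosure (W := ⁅B, B⁆ ⊓ Y) hgen' fun x hx y hy => ?_).trans
      inf_le_right
    refine ⟨Subgroup.commutator_mem_commutator hx.1 hy, ?_⟩
    rw [commutatorElement_def, mul_assoc x, mul_assoc x]
    refine mul_mem hx.2 ?_
    exact (mem_normalizer_iff.1 (sylow_le_normalizer_layer _ _ (hBS hy)) x⁻¹).1 (inv_mem hx.2)
  have hDc : B ≤ centralizer ((⁅B, B⁆ : Subgroup G) : Set G) :=
    le_centralizer_of_normalClosure hgen' fun x hx w hw => center_comm hx.2.1 (hDY hw).1.1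
  have hKc : B ≤ centralizer (zjLayer p (S : Subgroup G) k : Set G) :=
    le_centralizer_of_normalClosure hgen' fun x hx w hw => center_comm hx.2.1 hw.1.1
  -- the derived subgroup has exponent `p`
  have hDp : ∀ d ∈ ⁅B, B⁆, d ^ p = 1 := by
    let E : Subgroup G :=
      { carrier := {d | d ∈ ⁅B, B⁆ ∧ d ^ p = 1}
        one_mem' := ⟨one_mem _, one_pow _⟩
        mul_mem' := fun {a c} ha hc => ⟨mul_mem ha.1 hc.1, by
          rw [Commute.mul_pow (center_comm (hDY hc.1).1 (hDY ha.1).1.1), ha.2, hc.2, one_mul]⟩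
        inv_mem' := fun {a} ha => ⟨inv_mem ha.1, by rw [inv_pow, ha.2, inv_one]⟩ }
    have : E.Normal := ⟨fun d hd g => ⟨Subgroup.Normal.conj_mem inferInstance d hd.1 g, by
      rw [conj_pow, hd.2]; group⟩⟩
    refine fun d hd => ((commutator_le_of_normalClosure (W := E) hgen' fun x hx y hy => ?_) hd).2
    have hxy : ⁅x, y⁆ ∈ ⁅B, B⁆ := Subgroup.commutator_mem_commutator hx.1 hy
    refine ⟨hxy, ?_⟩
    rw [← commutator_pow_left (w := ⁅x, y⁆) rfl (Subgroup.mem_centralizer_iff.1 (hDc hx.1) _ hxy),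
      commutatorElement_eq_one_iff_mul_comm]
    refine Subgroup.mem_centralizer_iff.1 (hKc hy) (x ^ p) ⟨pow_mem hx.2.1 p, ?_⟩
    rw [← pow_mul, ← pow_succ']
    exact hx.2.2
  have hpw : ∀ a ∈ B, ∀ c ∈ B, (a * c) ^ p = a ^ p * c ^ p := by
    intro a ha c hc
    have hd : ⁅c, a⁆ ∈ ⁅B, B⁆ := Subgroup.commutator_mem_commutator hc ha
    rw [pow_mul_classTwo rfl (Subgroup.mem_centralizer_iff.1 (hDc ha) _ hd)
      (Subgroup.mem_centralizer_iff.1 (hDc hc) _ hd) p]
    obtain ⟨i, hi⟩ := hp.out.odd_of_ne_two hp2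
    have : p.choose 2 = p * i := by
      rw [Nat.choose_two_right, hi, show 2 * i + 1 - 1 = i * 2 by omega, ← mul_assoc,
        Nat.mul_div_cancel _ (by norm_num : 0 < 2)]
    rw [this, pow_mul, hDp _ hd, one_pow, mul_one]
  -- `p`-th powers of `B` lie in the previous zjLayer
  have hBk : ∀ b ∈ B, b ^ p ∈ zjLayer p (S : Subgroup G) k := by
    let Q : Subgroup G :=
      { carrier := {b | b ∈ B ∧ b ^ p ∈ zjLayer p (S : Subgroup G) k}
        one_mem' := ⟨one_mem _, by rw [one_pow]; exact one_mem _⟩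
        mul_mem' := fun {a c} ha hc => ⟨mul_mem ha.1 hc.1, by
          rw [hpw a ha.1 c hc.1]; exact mul_mem ha.2 hc.2⟩
        inv_mem' := fun {a} ha => ⟨inv_mem ha.1, by rw [inv_pow]; exact inv_mem ha.2⟩ }
    have : Q.Normal := ⟨fun d hd g => ⟨Subgroup.Normal.conj_mem inferInstance d hd.1 g, by
      rw [conj_pow]; exact hk.conj_mem _ hd.2 g⟩⟩
    intro b hb
    refine (normalClosure_le_normal (N := Q) (fun x hx => ⟨hx.1, ?_⟩) (hgen' hb)).2
    refine ⟨pow_mem hx.2.1 p, ?_⟩
    rw [← pow_mul, ← pow_succ']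
    exact hx.2.2
  -- the elements of order dividing `p`
  let B₀ : Subgroup G :=
    { carrier := {b | b ∈ B ∧ b ^ p = 1}
      one_mem' := ⟨one_mem _, one_pow _⟩
      mul_mem' := fun {a c} ha hc => ⟨mul_mem ha.1 hc.1, by
        rw [hpw a ha.1 c hc.1, ha.2, hc.2, one_mul]⟩
      inv_mem' := fun {a} ha => ⟨inv_mem ha.1, by rw [inv_pow, ha.2, inv_one]⟩ }
  have hB₀n : B₀.Normal := ⟨fun d hd g => ⟨Subgroup.Normal.conj_mem inferInstance d hd.1 g, by
    rw [conj_pow, hd.2]; group⟩⟩
  have hB₀B : B₀ ≤ B := fun b hb => hb.1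
  set L := centralizer (zjLayer p (S : Subgroup G) k : Set G) with hL
  have : L.Normal := inferInstance
  have hJL : J ≤ L := fun y hy w hw => (center_comm hw.1 hy).symm
  have hu : ∀ l ∈ L, ∀ b ∈ B, b⁻¹ * (l * b * l⁻¹) ∈ B₀ := by
    intro l hl b hb
    have hlb : l * b * l⁻¹ ∈ B := Subgroup.Normal.conj_mem inferInstance b hb l
    refine ⟨mul_mem (inv_mem hb) hlb, ?_⟩
    rw [hpw _ (inv_mem hb) _ hlb, inv_pow, conj_pow]
    have := Subgroup.mem_centralizer_iff.1 hl _ (hBk b hb)
    rw [← this, mul_inv_cancel_right, inv_mul_cancel]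
  have hXJ : ∀ n ∈ normalizer (J : Set G), ∀ x ∈ X, n * x * n⁻¹ ∈ X := fun n hn x hx =>
    ⟨Subgroup.Normal.conj_mem inferInstance x hx.1 n,
      (mem_normalizer_iff.1 (normalizer_thompson_le_normalizer_layer _ _ hn) x).1 hx.2⟩
  by_cases hall : ∀ A ∈ maxElemAbIn p (S : Subgroup G), B₀ ≤ A
  · -- `B₀` is central in `J(S)`, so `L` fixes `X`
    refine ⟨fun x hx g => ?_⟩
    obtain ⟨l, hl, n, hn, rfl⟩ := exists_frattini S (C := L) (M := L) le_rfl
      (fun m hm => ⟨0, by simpa using hm⟩) g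
    have hJn : n ∈ normalizer (J : Set G) := by
      have hle : J ≤ (S : Subgroup G) ⊓ L := le_inf (thompsonSubgroupOf_le p _) hJL
      have := normalizer_le_normalizer_thompson (p := p) _ hn
      rwa [thompsonSubgroupOf_eq_of_le inf_le_left hle] at this
    set z := n * x * n⁻¹ with hz
    have hzX : z ∈ X := hXJ n hJn x hx
    have hu0 := hu l hl z hzX.1
    have huZ : z⁻¹ * (l * z * l⁻¹) ∈ Cfsg.centerThompsonOf p (S : Subgroup G) := by
      obtain ⟨A, hA⟩ := maxElemAbIn_nonempty p (S : Subgroup G)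
      refine ⟨le_thompsonSubgroupOf hA (hall A hA hu0), ?_⟩
      intro y hy
      rw [SetLike.mem_coe, thompsonSubgroupOf_eq] at hy
      have hJu : sSup (maxElemAbIn p (S : Subgroup G)) ≤ centralizer {z⁻¹ * (l * z * l⁻¹)} :=
        sSup_le fun A hA a ha =>
          Subgroup.mem_centralizer_singleton_iff.2 (elemAb_comm hA.2.1 ha (hall A hA hu0))
      exact Subgroup.mem_centralizer_singleton_iff.1 (hJu hy)
    have huY : z⁻¹ * (l * z * l⁻¹) ∈ Y := ⟨huZ, by rw [pow_succ', pow_mul, hu0.2, one_pow]⟩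
    have : l * n * x * (l * n)⁻¹ = z * (z⁻¹ * (l * z * l⁻¹)) := by
      rw [hz]; group
    rw [this]
    exact ⟨mul_mem hzX.1 hu0.1, mul_mem hzX.2 huY⟩
  · -- some member of largest order normalised by `B₀` lies in a normal subgroup fixing `X`
    exfalso
    push Not at hall
    obtain ⟨U, hU, hnU⟩ := hall
    have hdA : ∀ A ∈ maxElemAbIn p (S : Subgroup G), ⁅B₀, B₀⁆ ≤ A := fun A hA d hd => by
      have hd' : d ∈ ⁅B, B⁆ := Subgroup.commutator_mono hB₀B hB₀B hd
      exact mem_of_center hA (hDY hd').1 (hDp d hd')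
    obtain ⟨A, hA, -, hnA, hBA⟩ := Replacement.exists_normalizes (maxElemAbIn p (S : Subgroup G))
      S.2 (hB₀B.trans hBS) (fun s _ => by rw [Subgroup.normalizer_eq_top]; exact mem_top s)
      (.inl hp2) (fun A hA => hA.1)
      (fun A hA x hx y hy => elemAb_comm hA.2.1 hx hy)
      (fun A hA b hb A' hle hc hcard hexp => by
        refine ⟨hle.trans (sup_le hA.1 ?_), elemAb_mk hc
          (hexp p (hp.out.odd_of_ne_two hp2) fun a ha => elemAb_pow hA.2.1 ha),
          fun C hC hC' => hcard.symm ▸ hA.2.2 C hC hC'⟩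
        rintro _ ⟨a, ha, rfl⟩
        have hbS : b ∈ (S : Subgroup G) := hBS (hB₀B hb)
        simpa using mul_mem (mul_mem (inv_mem hbS) (hA.1 ha)) hbS)
      hU (hdA U hU) hnU
    obtain ⟨D, hDn, hCD, hDj, hDa⟩ := exists_stable_sup (hst B₀ (hB.to_le hB₀B))
    set M := L ⊓ D with hM
    set C' := L ⊓ centralizer (B : Set G) with hC'
    have : M.Normal := Subgroup.normal_inf_normal L D
    have : C'.Normal := Subgroup.normal_inf_normal L _
    have hCM : C' ≤ M := le_inf inf_le_left
      ((inf_le_right.trans (centralizer_le hB₀B)).trans hCD)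
    have hMj : ∀ x ∈ M, ∃ j : ℕ, x ^ (p ^ j) ∈ C' := by
      intro x hx
      obtain ⟨j, hj⟩ := hDj x hx.2
      refine ⟨j + 1, pow_mem hx.1 _, ?_⟩
      set e := x ^ (p ^ j) with he
      intro b hb
      set v := b⁻¹ * (e * b * e⁻¹) with hv
      have hve : v * e = e * v := Subgroup.mem_centralizer_iff.1 hj v (hu e (pow_mem hx.1 _) b hb)
      have hstep : ∀ i : ℕ, e ^ i * b * (e ^ i)⁻¹ = b * v ^ i := by
        intro i
        induction i with
        | zero => simp
        | succ i ih =>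
          calc e ^ (i + 1) * b * (e ^ (i + 1))⁻¹ = e * (e ^ i * b * (e ^ i)⁻¹) * e⁻¹ := by
                rw [pow_succ']; group
            _ = (e * b) * (v ^ i * e⁻¹) := by rw [ih]; group
            _ = (e * b) * (e⁻¹ * v ^ i) := by
                rw [((Commute.pow_left hve i).inv_right).eq]
            _ = b * v * v ^ i := by rw [hv]; group
            _ = b * v ^ (i + 1) := by rw [pow_succ', mul_assoc]
      have h1 := hstep p
      rw [(hu e (pow_mem hx.1 _) b hb).2, mul_one] at h1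
      rw [pow_succ, pow_mul, ← he]
      calc b * e ^ p = e ^ p * b * (e ^ p)⁻¹ * e ^ p := by rw [h1]
        _ = e ^ p * b := by group
    set T := (S : Subgroup G) ⊓ M with hT
    have hAT : A ≤ T := fun a ha => ⟨hA.1 ha, hJL (le_thompsonSubgroupOf hA ha),
      hDa a (commutator_quadratic hBA (fun x hx y hy => elemAb_comm hA.2.1 hx hy) ha)⟩
    set J₁ := Cfsg.thompsonSubgroupOf p T with hJ₁
    have hJ₁J : J₁ ≤ J := thompsonSubgroupOf_mono inf_le_left hA hAT
    have hAJ₁ : A ≤ J₁ :=
      le_thompsonSubgroupOf ⟨hAT, hA.2.1, fun C hC hC' => hA.2.2 C (hC.trans inf_le_left) hC'⟩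
    have : (B ⊓ centralizer (J₁ : Set G)).Normal := by
      refine ⟨fun w hw g => ⟨Subgroup.Normal.conj_mem inferInstance w hw.1 g, ?_⟩⟩
      obtain ⟨c, hc, n, hn, rfl⟩ := exists_frattini S hCM hMj g
      have hnJ : n ∈ normalizer (J₁ : Set G) := normalizer_le_normalizer_thompson _ hn
      set z := n * w * n⁻¹ with hz
      have hzB : z ∈ B := Subgroup.Normal.conj_mem inferInstance w hw.1 n
      have : c * n * w * (c * n)⁻¹ = z := by
        rw [show c * n * w * (c * n)⁻¹ = c * z * c⁻¹ by rw [hz]; group,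
          ← Subgroup.mem_centralizer_iff.1 hc.2 z hzB, mul_inv_cancel_right]
      rw [this, hz]
      intro y hy
      have hy' : n⁻¹ * y * n ∈ J₁ := (mem_normalizer_iff''.1 hnJ y).1 hy
      have := Subgroup.mem_centralizer_iff.1 hw.2 _ hy'
      calc y * (n * w * n⁻¹) = n * (n⁻¹ * y * n * w) * n⁻¹ := by group
        _ = n * (w * (n⁻¹ * y * n)) * n⁻¹ := by rw [this]
        _ = n * w * n⁻¹ * y := by group
    have hBW : B ≤ B ⊓ centralizer (J₁ : Set G) := hgen'.trans (normalClosure_le_normal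
      fun x hx => ⟨hx.1, fun y hy => center_comm hx.2.1 (hJ₁J hy)⟩)
    exact hnA fun b hb => mem_of_maxElemAbIn hA (hBS hb.1) hb.2 fun a ha =>
      Subgroup.mem_centralizer_iff.1 (hBW hb.1).2 a (hAJ₁ ha)

variable (hp2 : p ≠ 2) (hc : centralizer (Cfsg.pCore p G : Set G) ≤ Cfsg.pCore p G)
  (hst : ∀ (P : Subgroup G) [P.Normal], IsPGroup p P → Cfsg.IsPStableOn p P) (S : Sylow p G)

include hp2 hc hst in
theorem layer_normal (k : ℕ) : (zjLayer p (S : Subgroup G) k).Normal := by
  induction k with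
  | zero => rw [layer_zero]; infer_instance
  | succ k ih =>
    have hQ := Cores.pCore_isPGroup (G := G) p
    have hle : zjLayer p (S : Subgroup G) (k + 1) ≤ Cfsg.pCore p G :=
      le_pCore_of_abelian hc (hst _ hQ) S (sylow_le_normalizer_layer _ _)
        fun x hx y hy => center_comm hy.1 hx.1.1
    have := inf_layer_succ_normal hp2 hst S k ih (Cfsg.pCore p G) hQ
    rwa [inf_eq_right.2 hle] at this

include hp2 hc hst in
/-- The ZJ-theorem, elementary abelian version. -/
theorem centerThompsonOf_normal : (Cfsg.centerThompsonOf p (S : Subgroup G)).Normal := by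
  obtain ⟨n, hn⟩ := S.2.exists_card_eq
  have : Cfsg.centerThompsonOf p (S : Subgroup G) = zjLayer p (S : Subgroup G) n := by
    refine le_antisymm (fun x hx => ⟨hx, ?_⟩) fun x hx => hx.1
    rw [← hn]
    have := orderOf_dvd_natCard (⟨x, centerThompsonOf_le p _ hx⟩ : (S : Subgroup G))
    rw [Subgroup.orderOf_mk] at this
    exact orderOf_dvd_iff_pow_eq_one.1 this
  rw [this]
  exact layer_normal hp2 hc hst S n

omit [Finite G] hp in
theorem omegaCenterThompson_map_eq (S : Subgroup G) :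
    (Cfsg.omegaCenterThompson p S).map S.subtype = zjLayer p S 1 := by
  have hZ : (Cfsg.thompsonSubgroup p S ⊓ centralizer (Cfsg.thompsonSubgroup p S : Set S)).map
      S.subtype = Cfsg.centerThompsonOf p S :=
    map_inf_centralizer_of_injective _ S.subtype_injective _
  rw [Cfsg.omegaCenterThompson, map_omegaOne_of_injective _ S.subtype_injective, hZ]
  refine le_antisymm ((Subgroup.closure_le _).2 fun x hx => ⟨hx.1, by simpa using hx.2⟩)
    fun x hx => mem_omegaOne_of_pow hx.1 (by simpa using hx.2)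

end Cfsg.Agent.Lib.ZJ
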