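import Cfsg.Agent.Lib.ZJ.StableControl
import Cfsg.Agent.Lib.FusionSystem.NormalFacts

/-!
# Stable groups have constrained fusion systems

In a group that is `p`-stable in the normalizer form, `p` odd, the largest normal subgroup `Q` of
the fusion system is centric: otherwise `Z(J)` of the stable group `C(Q)/Z(Q)` gives a larger one.
-/

set_option autoImplicit false

namespace Cfsg.Agent.Lib.ZJ

open Cfsg.Agent.Lib.Fusion.Alperin
open Cfsg.Agent.Lib.ConjFunctor.Basic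
open scoped commutatorElement

theorem isConstrained_of_stable {G : Type*} [Group G] [Finite G] {p : ℕ} [hp : Fact p.Prime]
    (hp2 : p ≠ 2) (hG : Stable p G) (P : Sylow p G) :
    (Cfsg.groupFusionSystem (P : Subgroup G)).IsConstrained p := by
  set F := Cfsg.groupFusionSystem (P : Subgroup G) with hF
  have hsat := FS.isSaturated_group P
  refine ⟨hsat, F.core, FusionAlperin.Join.isNormal_core F, ?_⟩
  have hQn := FusionAlperin.Join.isNormal_core F
  set Q := F.core with hQdef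
  have hQP : Q ≤ (P : Subgroup G) := hQn.1
  have hQsc := FS.isNormal_stronglyClosed hQn
  refine ⟨hQP, fun Q' hQ' => ?_⟩
  obtain ⟨φ, hφ, rfl⟩ := hQ'
  have hrange : φ.range = Q := by
    refine Subgroup.eq_of_le_of_card_ge (fun z hz => ?_) (le_of_eq ?_)
    · obtain ⟨x, rfl⟩ := hz
      exact FS.stronglyClosed_apply_mem hQsc hφ x.2
    · exact Nat.card_congr (MonoidHom.ofInjective (F.injective_of_mem hφ)).toEquiv
  rw [hrange]
  -- `C_P(Q) ≤ Q`
  set H := Subgroup.normalizer (Q : Set G) with hH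
  set C := Subgroup.centralizer (Q : Set G) with hC
  have hPH : (P : Subgroup G) ≤ H := FS.stronglyClosed_le_normalizer hQsc
  have hCH : C ≤ H := Subgroup.centralizer_le_normalizer _
  have hHC : H ≤ Subgroup.normalizer (C : Set G) := fun x hx =>
    mem_normalizer_of_conjS_eq (by rw [conjS_centralizer, conjS_eq_of_mem_normalizer hx])
  set D := (P : Subgroup G) ⊓ C with hD
  have hPsyl : IsSyl p (P : Subgroup G) H := (isSyl_top P).mono hPH le_top
  have hDsyl : IsSyl p D C := by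
    have h1 := hPsyl.inf_normal hHC
    rwa [inf_eq_right.2 hCH] at h1
  show D ≤ Q
  by_contra hDQ
  set Z' : Subgroup C := (Q ⊓ C).subgroupOf C with hZ'
  have hZc : ∀ z : C, z ∈ Z' → ∀ c : C, c * z = z * c := fun z hz c =>
    Subtype.ext (Subgroup.mem_centralizer_iff.1 c.2 z (Subgroup.mem_inf.1 hz).1).symm
  haveI : Z'.Normal := ⟨fun z hz c => by rwa [hZc z hz c, mul_inv_cancel_right]⟩
  set π := QuotientGroup.mk' Z' with hπ
  have hπs := QuotientGroup.mk'_surjective Z'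
  have hst : Stable p (C ⧸ Z') := by
    refine stable_quotient_central hp2 (stable_subgroup hG C) Z' ?_ fun c _ z hz => by
      rw [hZc z hz c, mul_inv_cancel_right]
    exact (P.2.to_le (inf_le_left.trans hQP)).comap_subtype
  set T := hDsyl.toSylowOf with hT
  have hTmem : ∀ c : C, c ∈ (T : Subgroup C) ↔ (c : G) ∈ D := fun c => Iff.rfl
  set T₀ := T.mapSurjective hπs with hT₀
  set W := Cfsg.centerThompsonAOf (T₀ : Subgroup (C ⧸ Z')) with hW
  have hWT : W ≤ (T₀ : Subgroup (C ⧸ Z')) := centerThompsonAOf_le _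
  have hWne : W ≠ ⊥ := by
    intro h
    rw [hW, ← inducedFunctor_zjA] at h
    have h1 : (T₀ : Subgroup (C ⧸ Z')) ≠ ⊥ := by
      intro h2
      refine hDQ fun x hx => ?_
      have h3 : π ⟨x, hx.2⟩ ∈ (T₀ : Subgroup (C ⧸ Z')) := by
        rw [hT₀, Sylow.coe_mapSurjective]; exact ⟨_, (hTmem _).2 hx, rfl⟩
      rw [h2, Subgroup.mem_bot] at h3
      exact (Subgroup.mem_inf.1 ((QuotientGroup.eq_one_iff (⟨x, hx.2⟩ : C)).1 h3 :
        (⟨x, hx.2⟩ : C) ∈ Z')).1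
    exact ((ConjFunctor.Section.isConjugacyFunctor_induced (isCharPFunctor_zjA p))
      (T₀ : Subgroup (C ⧸ Z')) T₀.2).2.1 h1 h
  set R := ((T : Subgroup C) ⊓ W.comap π).map C.subtype with hR
  have hRD : R ≤ D := by rintro _ ⟨c, hc, rfl⟩; exact (hTmem c).1 hc.1
  have hRC : R ≤ C := hRD.trans inf_le_right
  have hRmem : ∀ c : C, (c : G) ∈ D → π c ∈ W → (c : G) ∈ R := fun c h1 h2 =>
    ⟨c, ⟨(hTmem c).2 h1, h2⟩, rfl⟩
  have hRW : ∀ x (hx : x ∈ C), x ∈ R → π ⟨x, hx⟩ ∈ W := by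
    rintro x hx ⟨c, hc, rfl⟩; exact hc.2
  -- elements of `N(Q) ∩ N(D)` normalise `R`
  have hnorm : ∀ m ∈ H, m ∈ Subgroup.normalizer (D : Set G) → ∀ x ∈ R, m * x * m⁻¹ ∈ R := by
    intro m hm hmD x hxR
    let μ : C ≃* C :=
      { toFun := fun c => ⟨m * c * m⁻¹, (Subgroup.mem_normalizer_iff.1 (hHC hm) c).1 c.2⟩
        invFun := fun c => ⟨m⁻¹ * c * m, (Subgroup.mem_normalizer_iff''.1 (hHC hm) c).1 c.2⟩
        left_inv := fun c => Subtype.ext (by simp [mul_assoc])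
        right_inv := fun c => Subtype.ext (by simp [mul_assoc])
        map_mul' := fun a b => Subtype.ext (by simp [mul_assoc]) }
    have hμZ : Z'.map μ.toMonoidHom = Z' := by
      ext z
      rw [Subgroup.mem_map_equiv]
      show m⁻¹ * (z : G) * m ∈ Q ⊓ C ↔ (z : G) ∈ Q ⊓ C
      have h1 := (Subgroup.mem_normalizer_iff''.1 hm (z : G))
      exact ⟨fun h => ⟨h1.2 h.1, z.2⟩,
        fun h => ⟨h1.1 h.1, (Subgroup.mem_normalizer_iff''.1 (hHC hm) _).1 h.2⟩⟩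
    let μ' : C ⧸ Z' ≃* C ⧸ Z' := QuotientGroup.congr Z' Z' μ hμZ
    have hμT : (T₀ : Subgroup (C ⧸ Z')).map μ'.toMonoidHom = T₀ := by
      refine Subgroup.eq_of_le_of_card_ge ?_
        (Subgroup.card_map_of_injective μ'.injective).ge
      rw [hT₀, Sylow.coe_mapSurjective]
      rintro _ ⟨_, ⟨c, hc, rfl⟩, rfl⟩
      refine ⟨μ c, ?_, rfl⟩
      exact (hTmem _).2 ((Subgroup.mem_normalizer_iff.1 hmD _).1 ((hTmem c).1 hc))
    have hμW : W.map μ'.toMonoidHom = W := by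
      rw [hW, map_centerThompsonAOf μ'.toMonoidHom μ'.injective, hμT]
    obtain ⟨hxC, hxD⟩ : x ∈ C ∧ x ∈ D := ⟨hRC hxR, hRD hxR⟩
    refine hRmem (μ ⟨x, hxC⟩) ((Subgroup.mem_normalizer_iff.1 hmD x).1 hxD) ?_
    rw [← hμW]
    exact ⟨π ⟨x, hxC⟩, hRW x hxC hxR, rfl⟩
  -- fusion is realised in `N(Q)`
  have hreal : ∀ (R' : Subgroup G) (φ : R' →* G), φ ∈ F.Hom R' →
      ∃ g ∈ H, ∀ x : R', φ x = g * x * g⁻¹ := by
    intro R' φ hφ
    obtain ⟨ψ, hψ, he, hm⟩ := hQn.2 R' φ hφ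
    obtain ⟨-, -, g, hg⟩ := FS.mem_groupHom.1 hψ
    refine ⟨g, mem_normalizer_of_conjS_eq
      (Subgroup.eq_of_le_of_card_ge ?_ (card_conjS g Q).ge), fun x => ?_⟩
    · rintro _ ⟨x, hx, rfl⟩
      have h1 := hm.le ⟨⟨x, (le_sup_right : Q ≤ R' ⊔ Q) hx⟩, Subgroup.mem_subgroupOf.2 hx, rfl⟩
      rw [hg] at h1
      exact h1
    · rw [← he x, hg]; rfl
  have hRsc : F.StronglyClosed R := by
    refine ⟨hRD.trans inf_le_left, fun R' hR' φ hφ x => ?_⟩
    obtain ⟨g, hg, hφg⟩ := hreal R' φ hφ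
    have hxP : φ x ∈ (P : Subgroup G) := (F.le_of_mem hφ).2 x
    obtain ⟨c, hc, m, hm, rfl⟩ := hPsyl.frattini hCH hHC hg
    obtain ⟨hmH, hmD⟩ := Subgroup.mem_inf.1 hm
    set y := m * (x : G) * m⁻¹ with hy
    have hyR : y ∈ R := hnorm m hmH hmD x (hR' x.2)
    have hφx : φ x = c * y * c⁻¹ := by rw [hφg, hy]; group
    have hcy : c * y * c⁻¹ ∈ C := mul_mem (mul_mem hc (hRC hyR)) (inv_mem hc)
    have hcyD : c * y * c⁻¹ ∈ D := ⟨hφx ▸ hxP, hcy⟩
    obtain ⟨n, hn, hne⟩ := exists_conj_centerThompsonAOf_stable hp2 hst T₀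
      (A := {π ⟨y, hRC hyR⟩}) (Set.singleton_subset_iff.2 (hWT (hRW y _ hyR)))
      (g := π ⟨c, hc⟩) (by
        rintro _ ⟨_, rfl, rfl⟩
        show _ ∈ (T₀ : Subgroup (C ⧸ Z'))
        rw [hT₀, Sylow.coe_mapSurjective]
        exact ⟨⟨c * y * c⁻¹, hcy⟩, (hTmem _).2 hcyD, rfl⟩)
    rw [hφx]
    refine hRmem ⟨c * y * c⁻¹, hcy⟩ hcyD ?_
    show π (⟨c, hc⟩ * ⟨y, hRC hyR⟩ * (⟨c, hc⟩ : C)⁻¹) ∈ W
    rw [map_mul, map_mul, map_inv, ← hne _ rfl]
    exact (Subgroup.mem_normalizer_iff.1 hn _).1 (hRW y _ hyR)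
  have hZsc : F.StronglyClosed (Q ⊓ C) := by
    refine ⟨inf_le_left.trans hQP, fun R' hR' φ hφ x => ?_⟩
    obtain ⟨g, hg, hφg⟩ := hreal R' φ hφ
    rw [hφg]
    exact ⟨(Subgroup.mem_normalizer_iff.1 hg _).1 (hR' x.2).1,
      (Subgroup.mem_normalizer_iff.1 (hHC hg) _).1 (hR' x.2).2⟩
  have hRn : F.IsNormal R := by
    refine FS.isNormal_of_series (n := 2) P.isPGroup' hsat ![⊥, Q ⊓ C, R] rfl rfl
      (fun i => ?_) fun i => ?_
    · fin_cases i
      · exact hZsc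
      · exact hRsc
    · fin_cases i
      · exact (Subgroup.commutator_eq_bot_iff_le_centralizer.2
          (hRC.trans (Subgroup.centralizer_le inf_le_left))).le
      · show ⁅R, R⁆ ≤ Q ⊓ C
        rw [Subgroup.commutator_le]
        intro a ha b hb
        have h1 : π ⁅(⟨a, hRC ha⟩ : C), ⟨b, hRC hb⟩⁆ = 1 := by
          rw [map_commutatorElement, commutatorElement_eq_one_iff_mul_comm]
          exact centerA_comm (hRW b _ hb) (hRW a _ ha).1
        exact (QuotientGroup.eq_one_iff (N := Z') _).1 h1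
  have hRQ : R ≤ Q := FS.le_core_of_isNormal hRn
  refine hWne (le_bot_iff.1 fun w hw => ?_)
  have hwT : w ∈ (T : Subgroup C).map π := by
    rw [← Sylow.coe_mapSurjective hπs]; exact hWT hw
  obtain ⟨c, hc, rfl⟩ := hwT
  have h1 : (c : G) ∈ Q := hRQ (hRmem c ((hTmem c).1 hc) hw)
  exact Subgroup.mem_bot.2 ((QuotientGroup.eq_one_iff c).2 ⟨h1, c.2⟩)

end Cfsg.Agent.Lib.ZJ
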