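import Cfsg.Agent.Lib.Quadratic.PStable
import Cfsg.Agent.Lib.ZJ.Constrained
import Cfsg.Agent.Lib.Elem70.EqualOrder

/-!
# `p`-stability in normalizer form and quotients

`Stable p G` passes to subgroups, to quotients by `p'`-groups and to quotients by normal
`p`-subgroups centralised by all `p'`-elements. The last point rests on `natural_false`: in a
stable group no natural `SL(2,p)`-section `P₁/N₀` sits on a `p`-subgroup `N₀` centralised by the
`p'`-elements acting.
-/

set_option autoImplicit false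

namespace Cfsg.Agent.Lib.ZJ

open Matrix
open Cfsg.Agent.Lib.Quadratic (InPRad Quad)
open Cfsg.Agent.Lib.PLocal.SLTwo (up lo)
open scoped commutatorElement

universe u

variable {G : Type*} [Group G] {p : ℕ}

/-- `p`-stability in the normalizer form, for elements. -/
def Stable (p : ℕ) (G : Type*) [Group G] : Prop :=
  ∀ (P : Subgroup G), IsPGroup p P → ∀ (g : G) (hg : g ∈ Subgroup.normalizer (P : Set G)), Quad P g →
    InPRad p ((Subgroup.centralizer (P : Set G)).subgroupOf (Subgroup.normalizer (P : Set G))) ⟨g, hg⟩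

theorem stable_subgroup (hG : Stable p G) (H : Subgroup G) : Stable p H := by
  intro P hP g hg hq
  set N := Subgroup.normalizer (P : Set H) with hN
  have hmem : ∀ x ∈ N, (x : G) ∈ Subgroup.normalizer (P.map H.subtype : Set G) := by
    intro x hx
    exact Subgroup.le_normalizer_map H.subtype ⟨x, hx, rfl⟩
  let τ : N →* Subgroup.normalizer (P.map H.subtype : Set G) :=
    (H.subtype.comp N.subtype).codRestrict _ fun x => hmem x x.2
  have hq' : Quad (P.map H.subtype) (g : G) := by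
    rintro _ ⟨v, hv, rfl⟩
    have := congrArg H.subtype (hq v hv)
    rwa [map_commutatorElement, map_commutatorElement, map_one] at this
  obtain ⟨D, hD, hgD, hDj⟩ := hG _ (hP.map H.subtype) g (hmem g hg) hq'
  refine ⟨D.comap τ, hD.comap τ, hgD, fun d hd => ?_⟩
  obtain ⟨k, hk⟩ := hDj (τ d) hd
  refine ⟨k, ?_⟩
  rw [Subgroup.mem_subgroupOf, Subgroup.mem_centralizer_iff] at hk ⊢
  intro v hv
  apply H.subtype_injective
  rw [map_mul, map_mul]
  exact hk _ ⟨v, hv, rfl⟩

variable [hp : Fact p.Prime]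

theorem eq_of_sq_comm {x n : G} (hx : Odd (orderOf x)) (h : Commute (x ^ 2) n) : Commute x n := by
  obtain ⟨k, hk⟩ := hx
  have : x = (x ^ 2) ^ (k + 1) := by
    rw [← pow_mul, show 2 * (k + 1) = orderOf x + 1 by omega, pow_succ, pow_orderOf_eq_one, one_mul]
  rw [this]
  exact h.pow_left _

theorem odd_orderOf (hp2 : p ≠ 2) {P : Subgroup G} (hP : IsPGroup p P) {x : G} (hx : x ∈ P) :
    Odd (orderOf x) := by
  obtain ⟨k, hk⟩ := hP ⟨x, hx⟩
  have h : x ^ p ^ k = 1 := congrArg Subtype.val hk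
  obtain ⟨i, -, hi⟩ := (Nat.dvd_prime_pow hp.out).1 (orderOf_dvd_of_pow_eq_one h)
  rw [hi]
  exact (hp.out.odd_of_ne_two hp2).pow

/-- A `p'`-element trivial on a normal series of a `p`-group is trivial on it. -/
theorem commute_of_coprime {t x : G} (ht : (orderOf t).Coprime p) {N : Subgroup G} (hN : IsPGroup p N)
    (hc : ∀ n ∈ N, t * n * t⁻¹ = n) (hx : x⁻¹ * (t * x * t⁻¹) ∈ N) : t * x * t⁻¹ = x := by
  set v := x⁻¹ * (t * x * t⁻¹) with hv
  have hvt : v * t = t * v := (mul_inv_eq_iff_eq_mul.1 (hc v hx)).symm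
  have h := conj_pow_eq hv hvt (orderOf t)
  rw [pow_orderOf_eq_one, one_mul, inv_one, mul_one] at h
  obtain ⟨k, hk⟩ := hN ⟨v, hx⟩
  have h1 : orderOf v ∣ p ^ k := orderOf_dvd_of_pow_eq_one (congrArg Subtype.val hk)
  have h2 : orderOf v ∣ orderOf t := orderOf_dvd_of_pow_eq_one (mul_eq_left.1 h.symm)
  have h3 : v = 1 :=
    orderOf_eq_one_iff.1 (Nat.eq_one_of_dvd_coprimes (ht.pow_right k) h2 h1)
  exact (inv_mul_eq_one.1 h3).symm

variable [Finite G]

theorem natural_false (hp2 : p ≠ 2) (hG : Stable p G) {Γ : Type*} [Group Γ] [Finite Γ] (ι : Γ →* G)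
    {N₀ P₁ : Subgroup G} (hP₁ : IsPGroup p P₁) (hN₀ : N₀ ≤ P₁)
    (hΓ : ∀ k, ι k ∈ Subgroup.normalizer (P₁ : Set G))
    (hfix : ∀ k : Γ, (orderOf k).Coprime p → ∀ n ∈ N₀, ι k * n * (ι k)⁻¹ = n)
    (ψ : P₁ →* Multiplicative (Fin 2 → ZMod p)) (hψs : Function.Surjective ψ)
    (hψ : ∀ x, ψ x = 1 ↔ (x : G) ∈ N₀)
    (σ : Γ →* Matrix.SpecialLinearGroup (Fin 2) (ZMod p)) (hσ : Function.Surjective σ)
    (hact : ∀ (k : Γ) (x y : P₁), (y : G) = ι k * x * (ι k)⁻¹ →
      Multiplicative.toAdd (ψ y) = (σ k).1 *ᵥ Multiplicative.toAdd (ψ x)) : False := by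
  classical
  set conj : Γ → P₁ →* P₁ := fun k =>
    { toFun := fun x => ⟨ι k * x * (ι k)⁻¹, (Subgroup.mem_normalizer_iff.1 (hΓ k) x).1 x.2⟩
      map_one' := Subtype.ext (by simp)
      map_mul' := fun x y => Subtype.ext (by simp [mul_assoc]) } with hconj
  have hconjv : ∀ (k : Γ) (x : P₁), ((conj k x : P₁) : G) = ι k * x * (ι k)⁻¹ := fun _ _ => rfl
  let φ : P₁ → (Fin 2 → ZMod p) := fun x => Multiplicative.toAdd (ψ x)
  have hφk : ∀ k x, φ (conj k x) = (σ k).1 *ᵥ φ x := fun k x => hact k x _ rfl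
  have hφmul : ∀ x y, φ (x * y) = φ x + φ y := fun x y => by simp [φ]
  have hφinv : ∀ x, φ x⁻¹ = -φ x := fun x => by simp [φ]
  have hφ0 : ∀ x, φ x = 0 ↔ (x : G) ∈ N₀ := fun x => by
    rw [← hψ]; exact ⟨fun h => Multiplicative.toAdd.injective h, fun h => by simp [φ, h]⟩
  -- the central involution and its normaliser
  let Z : Subgroup (Matrix.SpecialLinearGroup (Fin 2) (ZMod p)) := Subgroup.zpowers Dickson.negI
  have hZn : Z.Normal := by
    refine ⟨fun z hz g => ?_⟩
    obtain ⟨n, rfl⟩ := Subgroup.mem_zpowers_iff.1 hz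
    rw [← (Commute.zpow_left (show Commute Dickson.negI g from Dickson.negI_comm g) n).eq,
      mul_inv_cancel_right]
    exact hz
  set D₀ : Subgroup Γ := Z.comap σ with hD₀
  haveI : D₀.Normal := hZn.comap σ
  obtain ⟨T⟩ : Nonempty (Sylow 2 D₀) := inferInstance
  set T' : Subgroup Γ := (T : Subgroup D₀).map D₀.subtype with hT'
  have hT2 : IsPGroup 2 T' := T.2.map _
  obtain ⟨z, hzT, hz⟩ : ∃ z ∈ T', σ z = Dickson.negI := by
    let τ : D₀ →* Z := (σ.comp D₀.subtype).codRestrict Z fun x => x.2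
    have hτ : Function.Surjective τ := by
      rintro ⟨y, hy⟩
      obtain ⟨k, rfl⟩ := hσ y
      exact ⟨⟨k, hy⟩, rfl⟩
    have hZ2 : IsPGroup 2 Z := by
      refine IsPGroup.of_card_dvd_pow (n := 1) ?_
      rw [Nat.card_zpowers, pow_one]
      exact orderOf_dvd_of_pow_eq_one (by rw [sq]; exact Dickson.negI_mul_self)
    have htop : ((T.mapSurjective hτ : Sylow 2 Z) : Subgroup Z) = ⊤ :=
      ((T.mapSurjective hτ).3 (hZ2.to_subgroup ⊤) le_top).symm
    rw [Sylow.coe_mapSurjective] at htop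
    obtain ⟨t, ht, htz⟩ : (⟨Dickson.negI, Subgroup.mem_zpowers _⟩ : Z) ∈
        (T : Subgroup D₀).map τ := htop ▸ Subgroup.mem_top _
    exact ⟨t, Subgroup.mem_map_of_mem D₀.subtype ht, congrArg Subtype.val htz⟩
  set K : Subgroup Γ := Subgroup.normalizer (T' : Set Γ) with hK
  have hfr : K ⊔ D₀ = ⊤ := Sylow.normalizer_sup_eq_top T
  have hσK : ∀ A, ∃ y ∈ K, σ y = A := by
    intro A
    obtain ⟨k, rfl⟩ := hσ A
    have hmap : (K ⊔ D₀).map σ ≤ K.map σ := by
      rw [Subgroup.map_sup]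
      refine sup_le le_rfl ?_
      rintro _ ⟨d, hd, rfl⟩
      have hd' : σ d ∈ Z := hd
      obtain ⟨n, hn⟩ := Subgroup.mem_zpowers_iff.1 hd'
      rw [← hn, ← hz, ← map_zpow]
      exact Subgroup.mem_map_of_mem σ (K.zpow_mem (Subgroup.le_normalizer hzT) n)
    obtain ⟨y, hy, hy'⟩ := hmap (Subgroup.mem_map_of_mem σ (hfr ▸ Subgroup.mem_top k))
    exact ⟨y, hy, hy'⟩
  -- the kernel of `σ` on `T'` fixes `P₁`
  have hTcop : ∀ t ∈ T', (orderOf t).Coprime p := fun t ht => by
    obtain ⟨k, hk⟩ := hT2 ⟨t, ht⟩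
    have h : t ^ 2 ^ k = 1 := congrArg Subtype.val hk
    exact Nat.Coprime.coprime_dvd_left (orderOf_dvd_of_pow_eq_one h)
      (((Nat.coprime_primes Nat.prime_two hp.out).2 hp2.symm).pow_left k)
  have htriv : ∀ t ∈ T', σ t = 1 → ∀ x, conj t x = x := by
    intro t ht hσt x
    refine Subtype.ext (commute_of_coprime
      ((hTcop t ht).coprime_dvd_left (orderOf_map_dvd ι t)) (hP₁.to_le hN₀)
      (hfix t (hTcop t ht)) ?_)
    have h : φ (x⁻¹ * conj t x) = 0 := by
      rw [hφmul, hφk, hσt, Matrix.SpecialLinearGroup.coe_one, Matrix.one_mulVec, hφinv,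
        neg_add_cancel]
    exact (hφ0 _).1 h
  set θ := conj z with hθ
  have hconj_mul : ∀ a b x, conj (a * b) x = conj a (conj b x) := fun a b x =>
    Subtype.ext (by simp [hconjv, mul_assoc])
  have hθθ : ∀ x, θ (θ x) = x := fun x => by
    rw [hθ, ← hconj_mul]
    exact htriv _ (mul_mem hzT hzT) (by rw [map_mul, hz, Dickson.negI_mul_self]) x
  have hθK : ∀ k ∈ K, ∀ x, θ (conj k x) = conj k (θ x) := by
    intro k hk x
    have hc : k * z * k⁻¹ * z⁻¹ ∈ T' :=
      mul_mem ((Subgroup.mem_normalizer_iff.1 hk z).1 hzT) (inv_mem hzT)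
    have h1 : σ (k * z * k⁻¹ * z⁻¹) = 1 := by
      rw [map_mul, map_mul, map_mul, map_inv, map_inv, hz,
        ← (show Dickson.negI * σ k = σ k * Dickson.negI from Dickson.negI_comm _)]
      simp
    rw [hθ, show conj k (conj z x) = conj (k * z) x from (hconj_mul k z x).symm,
      show k * z = (k * z * k⁻¹ * z⁻¹) * (z * k) by group,
      hconj_mul, htriv _ hc h1, hconj_mul]
  have hθfix : ∀ x : P₁, (x : G) ∈ N₀ → θ x = x := fun x hx =>
    Subtype.ext (hfix z (hTcop z hzT) _ hx)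
  have hφθ : ∀ x, φ (θ x) = -φ x := fun x => by
    rw [hθ, hφk, hz, Dickson.coe_negI, Matrix.neg_mulVec, Matrix.one_mulVec]
  have hodd : ∀ x : P₁, Odd (orderOf x) := fun x => by
    rw [← Subgroup.orderOf_coe]; exact odd_orderOf hp2 hP₁ x.2
  -- inverted elements
  have hexi : ∀ v, ∃ x, φ x = v ∧ θ x = x⁻¹ := by
    intro v
    obtain ⟨u, hu⟩ := hψs (Multiplicative.ofAdd v)
    have hu' : φ u = v := by simp [φ, hu]
    let S := {x : P₁ // φ x = v}
    haveI : Fintype S := Fintype.ofFinite S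
    let f : S → S := fun x => ⟨(θ x.1)⁻¹, by rw [hφinv, hφθ, neg_neg, x.2]⟩
    have hf : Function.Involutive f := fun x => Subtype.ext (by
      show (θ (θ x.1)⁻¹)⁻¹ = x.1
      rw [map_inv, inv_inv, hθθ])
    have hcard : ¬ 2 ∣ Fintype.card S := by
      let e : S ≃ ψ.ker :=
        { toFun := fun x => ⟨u⁻¹ * x.1, MonoidHom.mem_ker.2 (Multiplicative.toAdd.injective (by
            show φ (u⁻¹ * x.1) = _
            rw [hφmul, hφinv, hu', x.2, neg_add_cancel]; rfl))⟩
          invFun := fun m => ⟨u * m.1, by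
            rw [hφmul, hu']
            have : φ m.1 = 0 := by simp [φ, MonoidHom.mem_ker.1 m.2]
            rw [this, add_zero]⟩
          left_inv := fun x => Subtype.ext (mul_inv_cancel_left _ _)
          right_inv := fun m => Subtype.ext (inv_mul_cancel_left _ _) }
      rw [← Nat.card_eq_fintype_card, Nat.card_congr e]
      obtain ⟨n, hn⟩ := IsPGroup.iff_card.1 (hP₁.to_subgroup ψ.ker)
      rw [hn]
      intro hd
      exact hp2 ((Nat.prime_dvd_prime_iff_eq Nat.prime_two hp.out).1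
        (Nat.prime_two.dvd_of_dvd_pow hd)).symm
    obtain ⟨⟨x, hx⟩, hfx⟩ := Equiv.Perm.exists_fixed_point_of_prime (p := 2) (n := 1) hcard
      (σ := hf.toPerm f) (by
        refine Equiv.ext fun x => ?_
        rw [pow_one, sq, Equiv.Perm.mul_apply]
        exact hf x)
    have h1 : (θ x)⁻¹ = x := congrArg Subtype.val hfx
    exact ⟨x, hx, by rw [← inv_inv (θ x), h1]⟩
  have hcomm : ∀ x, θ x = x⁻¹ → ∀ n : P₁, (n : G) ∈ N₀ → Commute x n := by
    intro x hx n hn
    have hm : ((x * n * x⁻¹ : P₁) : G) ∈ N₀ := (hφ0 _).1 (by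
      rw [hφmul, hφmul, hφinv, (hφ0 n).2 hn, add_zero, add_neg_cancel])
    have h := hθfix _ hm
    rw [map_mul, map_mul, map_inv, hx, hθfix n hn, inv_inv] at h
    refine eq_of_sq_comm (hodd x) ?_
    calc x ^ 2 * n = x * (x * n * x⁻¹) * x := by simp [sq, mul_assoc]
      _ = x * (x⁻¹ * n * x) * x := by rw [h]
      _ = n * x ^ 2 := by simp [sq, mul_assoc]
  have huni : ∀ x y, θ x = x⁻¹ → θ y = y⁻¹ → φ x = φ y → x = y := by
    intro x y hx hy he
    have hn : ((x⁻¹ * y : P₁) : G) ∈ N₀ := (hφ0 _).1 (by rw [hφmul, hφinv, he, neg_add_cancel])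
    have h1 := hθfix _ hn
    rw [map_mul, map_inv, hx, hy, inv_inv] at h1
    have hc := hcomm x hx _ hn
    have h2 : (x⁻¹ * y) ^ 2 = 1 := by
      have h4 : x⁻¹ * y * x = y := by
        have := hc.eq
        rw [mul_inv_cancel_left] at this
        exact this.symm
      calc (x⁻¹ * y) ^ 2 = (x⁻¹ * y) * (x * y⁻¹) := by rw [h1, sq]
        _ = (x⁻¹ * y * x) * y⁻¹ := by group
        _ = 1 := by rw [h4, mul_inv_cancel]
    have h3 : x⁻¹ * y = 1 := by
      obtain ⟨k, hk⟩ := hodd (x⁻¹ * y)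
      have h4 := pow_orderOf_eq_one (x⁻¹ * y)
      rw [hk, pow_succ, pow_mul, h2, one_pow, one_mul] at h4
      exact h4
    exact inv_mul_eq_one.1 h3
  choose I hIφ hIθ using hexi
  have hIeq : ∀ x, θ x = x⁻¹ → I (φ x) = x := fun x hx => huni _ _ (hIθ _) hx (hIφ _)
  have hIk : ∀ k ∈ K, ∀ v, conj k (I v) = I ((σ k).1 *ᵥ v) := fun k hk v => by
    have h := hIeq (conj k (I v)) (by rw [hθK k hk, hIθ, map_inv])
    rw [hφk, hIφ] at h
    exact h.symm
  set x := I ![1, 0] with hxdef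
  set w := I ![0, 1] with hwdef
  set P₂ : Subgroup P₁ := Subgroup.closure {x, w} with hP₂
  have hxP : x ∈ P₂ := Subgroup.subset_closure (Or.inl rfl)
  have hwP : w ∈ P₂ := Subgroup.subset_closure (Or.inr rfl)
  have hcent : ∀ u ∈ P₂, ∀ n : P₁, (n : G) ∈ N₀ → Commute u n := by
    intro u hu n hn
    have hle : P₂ ≤ Subgroup.centralizer ({n} : Set P₁) := by
      rw [hP₂, Subgroup.closure_le]
      rintro y (rfl | rfl) <;>
        exact Subgroup.mem_centralizer_singleton_iff.2 ((hcomm _ (hIθ _) n hn).eq)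
    exact Subgroup.mem_centralizer_singleton_iff.1 (hle hu)
  have hθP : ∀ u ∈ P₂, θ u ∈ P₂ := by
    intro u hu
    have hle : P₂ ≤ P₂.comap θ := by
      rw [hP₂, Subgroup.closure_le]
      rintro y (rfl | rfl)
      · rw [SetLike.mem_coe, Subgroup.mem_comap, hxdef, hIθ]; exact inv_mem hxP
      · rw [SetLike.mem_coe, Subgroup.mem_comap, hwdef, hIθ]; exact inv_mem hwP
    exact hle hu
  -- normalisation inside `P₂`
  have hnormal : ∀ u ∈ P₂, ∀ h : ℕ, ((θ u)⁻¹ * u⁻¹) ^ (2 * h) = (θ u)⁻¹ * u⁻¹ →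
      I (φ u) = u * ((θ u)⁻¹ * u⁻¹) ^ h := by
    intro u hu h hh
    set m := (θ u)⁻¹ * u⁻¹ with hm
    have hmN : (m : G) ∈ N₀ := (hφ0 _).1 (by
      rw [hm, hφmul, hφinv, hφθ, hφinv, neg_neg, add_neg_cancel])
    have hmh : ((m ^ h : P₁) : G) ∈ N₀ := by rw [SubmonoidClass.coe_pow]; exact pow_mem hmN h
    have hinv : θ (u * m ^ h) = (u * m ^ h)⁻¹ := by
      have h1 : θ u = u⁻¹ * m⁻¹ := by rw [hm]; group
      have hcu : Commute u m := hcent u hu m hmN
      calc θ (u * m ^ h) = u⁻¹ * m⁻¹ * m ^ h := by rw [map_mul, hθfix _ hmh, h1]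
        _ = u⁻¹ * (m ^ h)⁻¹ := by
          have h2 : m = m ^ h * m ^ h := by rw [← pow_add, ← two_mul, hh]
          nth_rewrite 1 [h2]
          group
        _ = (u * m ^ h)⁻¹ := by
          rw [_root_.mul_inv_rev]; exact ((hcu.pow_right h).inv_left.inv_right).eq
    have := hIeq _ hinv
    rwa [hφmul, (hφ0 _).2 hmh, add_zero] at this
  have hIP : ∀ u ∈ P₂, I (φ u) ∈ P₂ := by
    intro u hu
    obtain ⟨k, hk⟩ := hodd ((θ u)⁻¹ * u⁻¹)
    rw [hnormal u hu (k + 1) (by
      rw [show 2 * (k + 1) = orderOf ((θ u)⁻¹ * u⁻¹) + 1 by omega, pow_succ, pow_orderOf_eq_one,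
        one_mul])]
    exact mul_mem hu (pow_mem (mul_mem (inv_mem (hθP u hu)) (inv_mem hu)) _)
  have hφpow : ∀ (u : P₁) (n : ℕ), φ (u ^ n) = n • φ u := fun u n => by simp [φ]
  have hImem : ∀ v, I v ∈ P₂ := by
    intro v
    have h := hIP (x ^ (v 0).val * w ^ (v 1).val) (mul_mem (pow_mem hxP _) (pow_mem hwP _))
    rw [hφmul, hφpow, hφpow, hxdef, hwdef, hIφ, hIφ] at h
    convert h using 2
    ext i
    fin_cases i <;> simp
  -- `up 1` acts quadratically
  obtain ⟨y, hyK, hy⟩ := hσK (up 1)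
  set c := w * x * w⁻¹ * x⁻¹ with hc
  have hcN : (c : G) ∈ N₀ := (hφ0 _).1 (by
    rw [hc, hφmul, hφmul, hφmul, hφinv, hφinv]; abel)
  have hcP : c ∈ P₂ := mul_mem (mul_mem (mul_mem hwP hxP) (inv_mem hwP)) (inv_mem hxP)
  have hyx : conj y x = x := by
    rw [hxdef, hIk y hyK, hy]
    congr 1
    ext i; fin_cases i <;> simp [up, Matrix.mulVec, dotProduct, Fin.sum_univ_two]
  obtain ⟨h, hyw⟩ : ∃ h : ℕ, conj y w = x * w * c ^ h := by
    obtain ⟨k, hk⟩ := hodd c
    have hm : (θ (x * w))⁻¹ * (x * w)⁻¹ = c := by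
      rw [map_mul, hxdef, hwdef, hIθ, hIθ, hc, ← hxdef, ← hwdef]; group
    refine ⟨k + 1, ?_⟩
    have h1 := hnormal (x * w) (mul_mem hxP hwP) (k + 1) (by
      rw [hm, show 2 * (k + 1) = orderOf c + 1 by omega, pow_succ, pow_orderOf_eq_one, one_mul])
    rw [hm, hφmul, hxdef, hwdef, hIφ, hIφ] at h1
    rw [hxdef, hwdef, hIk y hyK, hy, ← h1]
    congr 1
    ext i; fin_cases i <;> simp [up, Matrix.mulVec, dotProduct, Fin.sum_univ_two]
  have hcx : Commute x c := hcent x hxP c hcN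
  have hcw : Commute w c := hcent w hwP c hcN
  have hyc : conj y c = c := by
    have hch : ∀ u ∈ P₂, Commute u (c ^ h) := fun u hu => (hcent u hu c hcN).pow_right h
    calc conj y c = (x * w * c ^ h) * x * (x * w * c ^ h)⁻¹ * x⁻¹ := by
          rw [hc, map_mul, map_mul, map_mul, map_inv, map_inv, hyx, hyw]
      _ = (x * w) * (c ^ h * x * (c ^ h)⁻¹) * (x * w)⁻¹ * x⁻¹ := by group
      _ = x * c * x⁻¹ := by rw [← (hch x hxP).eq, mul_inv_cancel_right, hc]; group
      _ = c := by rw [hcx.eq, mul_inv_cancel_right]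
  set L : Subgroup P₁ := Subgroup.closure {x, c} with hL
  have hxL : x ∈ L := Subgroup.subset_closure (Or.inl rfl)
  have hcL : c ∈ L := Subgroup.subset_closure (Or.inr rfl)
  have hLfix : ∀ l ∈ L, conj y l = l := fun l hl =>
    (show L ≤ (conj y).eqLocus (MonoidHom.id P₁) by
      rw [hL, Subgroup.closure_le]; rintro u (rfl | rfl) <;> assumption) hl
  have hwL : ∀ l ∈ L, w * l * w⁻¹ ∈ L := fun l hl =>
    (show L ≤ L.comap (MulAut.conj w).toMonoidHom by
      rw [hL, Subgroup.closure_le, ← hL]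
      rintro u (rfl | rfl)
      · show w * x * w⁻¹ ∈ L
        rw [show w * x * w⁻¹ = c * x by rw [hc]; group]
        exact mul_mem hcL hxL
      · show w * c * w⁻¹ ∈ L
        rwa [hcw.eq, mul_inv_cancel_right]) hl
  have hwN : w ∈ Subgroup.normalizer (L : Set P₁) := by
    refine Fusion.Alperin.mem_normalizer_of_conjS_eq
      (Subgroup.eq_of_le_of_card_ge ?_ (Fusion.Alperin.card_conjS w L).ge)
    rintro _ ⟨l, hl, rfl⟩
    exact hwL l hl
  have hwN' : Subgroup.zpowers w ≤ Subgroup.normalizer (L : Set P₁) := Subgroup.zpowers_le.2 hwN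
  have hdisp : ∀ u ∈ P₂, u⁻¹ * conj y u ∈ L := by
    intro u hu
    have hle : P₂ ≤ Subgroup.zpowers w ⊔ L := by
      rw [hP₂, Subgroup.closure_le]
      rintro v (rfl | rfl)
      · exact (le_sup_right (a := Subgroup.zpowers w)) hxL
      · exact (le_sup_left (b := L)) (Subgroup.mem_zpowers _)
    have hu' : u ∈ ((Subgroup.zpowers w ⊔ L : Subgroup P₁) : Set P₁) := hle hu
    rw [Subgroup.coe_mul_of_left_le_normalizer_right _ _ hwN'] at hu'
    obtain ⟨a, ha, l, hl, rfl⟩ := hu'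
    obtain ⟨b, rfl⟩ : ∃ b : ℕ, w ^ b = a := Submonoid.mem_powers_iff _ _ |>.1
      ((isOfFinOrder_of_finite w).mem_powers_iff_mem_zpowers.2 ha)
    have hb : ∀ b : ℕ, (w ^ b)⁻¹ * conj y (w ^ b) ∈ L := by
      intro b
      induction b with
      | zero => rw [pow_zero, map_one, inv_one, one_mul]; exact one_mem L
      | succ b ih =>
        have h1 : w⁻¹ * conj y w ∈ L := by
          rw [hyw, show w⁻¹ * (x * w * c ^ h) = (w⁻¹ * x * w) * c ^ h by group]
          exact mul_mem ((Subgroup.mem_normalizer_iff''.1 hwN x).1 hxL) (pow_mem hcL h)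
        have h2 := mul_mem ((Subgroup.mem_normalizer_iff''.1 hwN _).1 ih) h1
        rw [pow_succ, map_mul]
        convert h2 using 1
        group
    rw [map_mul, hLfix l hl,
      show (w ^ b * l)⁻¹ * (conj y (w ^ b) * l) = l⁻¹ * ((w ^ b)⁻¹ * conj y (w ^ b)) * l by group]
    exact mul_mem (mul_mem (inv_mem hl) (hb b)) hl
  -- stability at `P₂`
  set Q := P₂.map P₁.subtype with hQ
  have hQp : IsPGroup p Q := (hP₁.to_subgroup P₂).map _
  have hKQ : ∀ k ∈ K, ι k ∈ Subgroup.normalizer (Q : Set G) := by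
    intro k hk
    have hsub : ∀ k ∈ K, ∀ u ∈ P₂, conj k u ∈ P₂ := fun k hk u hu =>
      (show P₂ ≤ P₂.comap (conj k) by
        rw [hP₂, Subgroup.closure_le, ← hP₂]
        rintro v (rfl | rfl)
        · rw [SetLike.mem_coe, Subgroup.mem_comap, hxdef, hIk k hk]; exact hImem _
        · rw [SetLike.mem_coe, Subgroup.mem_comap, hwdef, hIk k hk]; exact hImem _) hu
    rw [Subgroup.mem_normalizer_iff]
    refine fun g => ⟨fun hg => ?_, fun hg => ?_⟩
    · obtain ⟨u, hu, rfl⟩ := hg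
      exact ⟨conj k u, hsub k hk u hu, rfl⟩
    · obtain ⟨u, hu, he⟩ := hg
      refine ⟨conj k⁻¹ u, hsub k⁻¹ (inv_mem hk) u hu, ?_⟩
      show ι k⁻¹ * (u : G) * (ι k⁻¹)⁻¹ = g
      rw [show (u : G) = ι k * g * (ι k)⁻¹ from he, map_inv]
      group
  have hquad : Quad Q (ι y) := by
    rintro _ ⟨u, hu, rfl⟩
    have hl := hdisp u⁻¹ (inv_mem hu)
    rw [inv_inv, map_inv] at hl
    have hfix := congrArg Subtype.val (hLfix _ hl)
    rw [commutatorElement_eq_one_iff_mul_comm]
    have e : ((u * (conj y u)⁻¹ : P₁) : G) = ⁅(u : G), ι y⁆ := by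
      simp [hconjv, commutatorElement_def, mul_assoc]
    rw [hconjv, e] at hfix
    exact (mul_inv_eq_iff_eq_mul.1 hfix).symm
  obtain ⟨D, hD, hyD, hDj⟩ := hG Q hQp (ι y) (hKQ y hyK) hquad
  let τ : K →* Subgroup.normalizer (Q : Set G) :=
    (ι.comp K.subtype).codRestrict _ fun k => hKQ k k.2
  let s : K →* Matrix.SpecialLinearGroup (Fin 2) (ZMod p) := σ.comp K.subtype
  have hs : Function.Surjective s := fun A => by
    obtain ⟨k, hk, hkA⟩ := hσK A
    exact ⟨⟨k, hk⟩, hkA⟩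
  set A := (D.comap τ).map s with hA
  have hAn : A.Normal := (hD.comap τ).map s hs
  have hup : up (1 : ZMod p) ∈ A := ⟨⟨y, hyK⟩, hyD, hy⟩
  have hAp : IsPGroup p A := by
    rintro ⟨_, d, hd, rfl⟩
    obtain ⟨k, hk⟩ := hDj (τ d) hd
    refine ⟨k, Subtype.ext ?_⟩
    rw [SubmonoidClass.coe_pow, OneMemClass.coe_one, ← map_pow]
    have hcen : ∀ v, (s (d ^ p ^ k)).1 *ᵥ v = v := by
      intro v
      have h1 : conj ((d : Γ) ^ p ^ k) (I v) = I v := by
        apply Subtype.ext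
        rw [hconjv, mul_inv_eq_iff_eq_mul]
        have h2 := Subgroup.mem_centralizer_iff.1 hk (I v : G) ⟨I v, hImem v, rfl⟩
        rw [map_pow] at h2
        rw [map_pow]
        exact h2.symm
      have h3 := hφk ((d : Γ) ^ p ^ k) (I v)
      rw [h1, hIφ] at h3
      simpa [s] using h3.symm
    apply Subtype.ext
    apply Matrix.toLin'.injective
    refine LinearMap.ext fun v => ?_
    rw [Matrix.toLin'_apply, Matrix.toLin'_apply, Matrix.SpecialLinearGroup.coe_one,
      Matrix.one_mulVec]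
    exact hcen v
  have hlo : lo (1 : ZMod p) ∈ A := by
    let w₀ : Matrix.SpecialLinearGroup (Fin 2) (ZMod p) :=
      ⟨!![0, 1; -1, 0], by simp [Matrix.det_fin_two]⟩
    have h1 := inv_mem (hAn.conj_mem _ hup w₀)
    convert h1 using 1
    rw [eq_inv_iff_mul_eq_one, ← mul_assoc, mul_inv_eq_one]
    apply Subtype.ext
    rw [PLocal.SLTwo.val_mul, PLocal.SLTwo.val_mul]
    ext i j
    fin_cases i <;> fin_cases j <;>
      simp [up, lo, w₀, Matrix.mul_apply, Fin.sum_univ_two]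
  have htop : A = ⊤ := by
    rw [eq_top_iff, ← PLocal.SLTwo.closure_pair_eq_top, Subgroup.closure_le]
    rintro _ (rfl | rfl) <;> assumption
  obtain ⟨k, hk⟩ := hAp ⟨Dickson.negI, htop ▸ Subgroup.mem_top _⟩
  have hk' : (Dickson.negI : Matrix.SpecialLinearGroup (Fin 2) (ZMod p)) ^ p ^ k = 1 :=
    congrArg Subtype.val hk
  obtain ⟨j, hj⟩ := (hp.out.odd_of_ne_two hp2).pow (n := k)
  rw [hj, pow_succ, pow_mul, sq, Dickson.negI_mul_self, one_pow, one_mul] at hk'
  have h2 := congrArg (fun M : Matrix.SpecialLinearGroup (Fin 2) (ZMod p) => M.1 0 0) hk'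
  simp [Dickson.negI] at h2
  exact Dickson.two_ne_zero_char hp2 (by linear_combination -h2)

/-- The key lemma: a quadratic element on a section `P/B` is in the `p`-radical of its automiser,
if the `p'`-elements centralise `B`. -/
theorem inPRad_section (hp2 : p ≠ 2) (hG : Stable p G) {P : Subgroup G} (hP : IsPGroup p P) :
    ∀ (m : ℕ) {X : Type u} [Group X] [Finite X] (ι : X →* G) (B : Subgroup G), B ≤ P →
      Nat.card P < Nat.card B + m → P ≤ Subgroup.normalizer (B : Set G) →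
      (∀ x, ι x ∈ Subgroup.normalizer (P : Set G)) → (∀ x, ι x ∈ Subgroup.normalizer (B : Set G)) →
      (∀ x : X, (orderOf x).Coprime p → ∀ b ∈ B, ι x * b * (ι x)⁻¹ = b) →
      ∀ g : X, (∀ v ∈ P, ⁅⁅v, ι g⁆, ι g⁆ ∈ B) →
      ∃ D : Subgroup X, D.Normal ∧ g ∈ D ∧
        ∀ d ∈ D, ∃ k : ℕ, ∀ v ∈ P, ι (d ^ p ^ k) * v * (ι (d ^ p ^ k))⁻¹ * v⁻¹ ∈ B := by
  intro m
  induction m with
  | zero =>
    intro X _ _ ι B hB hm
    exact absurd hm (by have := Subgroup.card_le_of_le hB; omega)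
  | succ m ih =>
    intro X _ _ ι B hB hm hPB hXP hXB hfix g hq
    rcases eq_or_ne B P with rfl | hne
    · refine ⟨⊤, inferInstance, trivial, fun d _ => ⟨0, fun v hv => ?_⟩⟩
      exact mul_mem ((Subgroup.mem_normalizer_iff.1 (hXP _) v).1 hv) (inv_mem hv)
    set Y := Subgroup.normalizer (B : Set G) ⊓ Subgroup.normalizer (P : Set G) with hY
    have hPY : P ≤ Y := le_inf hPB Subgroup.le_normalizer
    have hBY : B ≤ Y := hB.trans hPY
    haveI hBn : (B.subgroupOf Y).Normal :=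
      (Subgroup.normal_subgroupOf_iff_le_normalizer hBY).2 inf_le_left
    haveI hPn : (P.subgroupOf Y).Normal :=
      (Subgroup.normal_subgroupOf_iff_le_normalizer hPY).2 inf_le_right
    set q := QuotientGroup.mk' (B.subgroupOf Y) with hqdef
    have hqs := QuotientGroup.mk'_surjective (B.subgroupOf Y)
    let χ : X →* Y := ι.codRestrict Y fun x => ⟨hXB x, hXP x⟩
    have hPb : IsPGroup p ((P.subgroupOf Y).map q) :=
      (hP.of_equiv (Subgroup.subgroupOfEquivOfLe hPY).symm).map q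
    have hPbn : ((P.subgroupOf Y).map q).Normal := hPn.map q hqs
    set Z := Quadratic.centralOmega p ((P.subgroupOf Y).map q) with hZ
    haveI : Z.Normal := Quadratic.centralOmega_normal hPbn
    letI : CommGroup Z := { (inferInstance : Group Z) with
      mul_comm := fun a b => Subtype.ext (a.2.2.1 b b.2.1) }
    have hPne : (P.subgroupOf Y).map q ≠ ⊥ := by
      rw [Ne, Subgroup.map_eq_bot_iff, hqdef, QuotientGroup.ker_mk']
      exact fun h => hne (le_antisymm hB fun v hv => h (x := ⟨v, hPY hv⟩) hv)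
    set V := (Z.comap q).map Y.subtype with hV
    have hBV : B ≤ V := fun b hb => ⟨⟨b, hBY hb⟩, by
      rw [SetLike.mem_coe, Subgroup.mem_comap,
        show q ⟨b, hBY hb⟩ = 1 from (QuotientGroup.eq_one_iff _).2 hb]
      exact one_mem Z, rfl⟩
    have hVP : V ≤ P := by
      rintro _ ⟨v, hv, rfl⟩
      obtain ⟨u, hu, he⟩ := hv.1
      have h1 : (u⁻¹ * v : Y) ∈ B.subgroupOf Y := QuotientGroup.eq.1 he
      have := mul_mem (show (u : G) ∈ P from hu) (hB (show ((u⁻¹ * v : Y) : G) ∈ B from h1))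
      simpa using this
    have hVmem : ∀ v : Y, (v : G) ∈ V ↔ q v ∈ Z := fun v =>
      ⟨fun ⟨u, hu, he⟩ => by rw [← Subtype.ext he]; exact hu, fun hv => ⟨v, hv, rfl⟩⟩
    have hVlt : B < V := by
      refine lt_of_le_of_ne hBV fun he => ?_
      obtain ⟨a, ha, ha1⟩ := Subgroup.bot_or_exists_ne_one Z |>.resolve_left
        (Quadratic.centralOmega_ne_bot hPb hPne)
      obtain ⟨v, rfl⟩ := hqs a
      exact ha1 ((QuotientGroup.eq_one_iff v).2 (show (v : G) ∈ B from he ▸ (hVmem v).2 ha))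
    have hYV : Y ≤ Subgroup.normalizer (V : Set G) := fun y hy =>
      Subgroup.le_normalizer_map Y.subtype ⟨⟨y, hy⟩, by
        rw [Subgroup.normalizer_eq_top]; trivial, rfl⟩
    let α : X →* MulAut Z := (MulAut.conjNormal : (Y ⧸ B.subgroupOf Y) →* MulAut Z).comp (q.comp χ)
    have hZp : ∀ a : Z, a ^ p = 1 := fun a => Subtype.ext a.2.2.2
    obtain ⟨n, ρ, hker, hquad, E, hE, hEact⟩ := Quadratic.exists_matrix (A := Z) hZp α
    have hαv : ∀ x (a : Z), ((α x a : Z) : Y ⧸ B.subgroupOf Y) = q (χ x) * a * (q (χ x))⁻¹ :=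
      fun x a => MulAut.conjNormal_apply _ _
    have hqz : (ρ g - 1) * (ρ g - 1) = 0 := by
      refine hquad g fun a => ?_
      apply Subtype.ext
      obtain ⟨v, hv⟩ := hqs (a : Y ⧸ B.subgroupOf Y)
      have hvP : (v : G) ∈ P := hVP ((hVmem v).2 (hv ▸ a.2))
      have hy : ((α g a / a : Z) : Y ⧸ B.subgroupOf Y) = q ⁅v, χ g⁆⁻¹ := by
        show ((α g a : Z) : Y ⧸ B.subgroupOf Y) / (a : Y ⧸ B.subgroupOf Y) = _
        rw [hαv, ← hv, div_eq_mul_inv, commutatorElement_inv, commutatorElement_def]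
        simp only [map_mul, map_inv, _root_.mul_inv_rev, inv_inv, mul_assoc]
        rfl
      rw [hαv, hy, mul_inv_eq_iff_eq_mul]
      have h1 : ⁅q ⁅v, χ g⁆, q (χ g)⁆ = 1 := by
        rw [← map_commutatorElement]
        refine (QuotientGroup.eq_one_iff _).2 (show ((⁅⁅v, χ g⁆, χ g⁆ : Y) : G) ∈ B from ?_)
        exact hq v hvP
      rw [commutatorElement_eq_one_iff_mul_comm] at h1
      rw [map_inv]
      exact ((Commute.inv_left (show Commute (q ⁅v, χ g⁆) (q (χ g)) from h1)).eq).symm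
    by_cases hr1 : InPRad p ρ.ker g
    swap
    · exfalso
      obtain ⟨K, σ, P0, hσ, hP0, hP0inj⟩ := Quadratic.exists_natural_of_notInPRad hp2 ρ hqz hr1
      let e : Multiplicative (Fin 2 → ZMod p) →* Y ⧸ B.subgroupOf Y :=
        (Z.subtype.comp E).comp
          (AddMonoidHom.toMultiplicative (Matrix.mulVecLin P0).toAddMonoidHom)
      have he : Function.Injective e := by
        intro v w h
        have h1 : P0 *ᵥ (Multiplicative.toAdd v) = P0 *ᵥ (Multiplicative.toAdd w) :=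
          Multiplicative.ofAdd.injective (hE (Z.subtype_injective h))
        have h2 : P0 *ᵥ (Multiplicative.toAdd v - Multiplicative.toAdd w) = 0 := by
          rw [Matrix.mulVec_sub, h1, sub_self]
        exact Multiplicative.toAdd.injective (sub_eq_zero.1 (hP0inj _ h2))
      have heact : ∀ (k : K) v, q (χ k) * e (Multiplicative.ofAdd v) * (q (χ k))⁻¹ =
          e (Multiplicative.ofAdd ((σ k).1 *ᵥ v)) := by
        intro k v
        show q (χ k) * ((E (Multiplicative.ofAdd (P0 *ᵥ v)) : Z) : Y ⧸ B.subgroupOf Y) *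
          (q (χ k))⁻¹ = ((E (Multiplicative.ofAdd (P0 *ᵥ ((σ k).1 *ᵥ v))) : Z) : Y ⧸ B.subgroupOf Y)
        rw [Matrix.mulVec_mulVec, ← hP0 k, ← Matrix.mulVec_mulVec, ← hEact, hαv]
      set P₁' := e.range.comap q with hP₁'
      set P₁ := P₁'.map Y.subtype with hP₁
      have hP₁V : P₁ ≤ V := Subgroup.map_mono (Subgroup.comap_mono (by
        rintro _ ⟨v, rfl⟩; exact ((E _ : Z)).2))
      let r : P₁' →* e.range := (q.comp P₁'.subtype).codRestrict _ fun x => x.2
      let ψ : P₁ →* Multiplicative (Fin 2 → ZMod p) :=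
        ((MonoidHom.ofInjective he).symm.toMonoidHom.comp r).comp
          (P₁'.equivMapOfInjective Y.subtype Y.subtype_injective).symm.toMonoidHom
      have hψe : ∀ (x : P₁) (u : Y), (u : G) = x → e (ψ x) = q u := by
        intro x u hu
        have h1 := P₁'.equivMapOfInjective Y.subtype Y.subtype_injective |>.apply_symm_apply x
        set x' := (P₁'.equivMapOfInjective Y.subtype Y.subtype_injective).symm x
        have h2 : ((x' : Y) : G) = (x : G) := congrArg Subtype.val h1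
        have h3 : (x' : Y) = u := Subtype.ext (h2.trans hu.symm)
        rw [← h3]
        exact MonoidHom.apply_ofInjective_symm he (r x')
      refine natural_false hp2 hG (ι.comp K.subtype) (N₀ := B) (P₁ := P₁) (hP.to_le (hP₁V.trans hVP))
        (fun b hb => ⟨⟨b, hBY hb⟩, by
          rw [SetLike.mem_coe, hP₁', Subgroup.mem_comap,
            show q ⟨b, hBY hb⟩ = 1 from (QuotientGroup.eq_one_iff _).2 hb]
          exact one_mem _, rfl⟩)
        (fun k => ?_) (fun k hk => hfix k (by rwa [Subgroup.orderOf_coe])) ψ ?_ ?_ σ hσ ?_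
      · refine Subgroup.le_normalizer_map Y.subtype ⟨χ k, ?_, rfl⟩
        rw [SetLike.mem_coe, hP₁', Subgroup.mem_normalizer_iff]
        intro u
        rw [Subgroup.mem_comap, Subgroup.mem_comap, map_mul, map_mul, map_inv]
        constructor
        · rintro ⟨v, hv⟩
          exact ⟨_, (heact k (Multiplicative.toAdd v)).symm.trans (by rw [ofAdd_toAdd, hv])⟩
        · rintro ⟨v, hv⟩
          refine ⟨Multiplicative.ofAdd ((σ k⁻¹).1 *ᵥ Multiplicative.toAdd v), ?_⟩
          rw [← heact k⁻¹, ofAdd_toAdd, hv]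
          simp [mul_assoc]
      · exact (((MonoidHom.ofInjective he).symm.surjective.comp (by
          rintro ⟨a, ha⟩
          obtain ⟨u, rfl⟩ := hqs a
          exact ⟨⟨u, ha⟩, rfl⟩)).comp
          (P₁'.equivMapOfInjective Y.subtype Y.subtype_injective).symm.surjective)
      · intro x
        obtain ⟨u, -, hu⟩ := x.2
        rw [← he.eq_iff, hψe x u hu, map_one]
        exact (QuotientGroup.eq_one_iff u).trans (by rw [Subgroup.mem_subgroupOf, ← hu]; rfl)
      · intro k x y hxy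
        obtain ⟨u, -, hu⟩ := x.2
        have h1 := hψe x u hu
        have h2 := hψe y (χ k * u * (χ k)⁻¹) (by
          rw [hxy, ← hu]; rfl)
        have h3 := heact k (Multiplicative.toAdd (ψ x))
        rw [ofAdd_toAdd, h1, ← map_inv, ← map_mul, ← map_mul, ← h2] at h3
        exact congrArg Multiplicative.toAdd (he h3)
    -- recursion inside `D₁`
    obtain ⟨D₁, hD₁, hg₁, hpow₁⟩ := hr1
    haveI := hD₁
    have hkerV : ∀ x : X, x ∈ ρ.ker → ∀ v : Y, (v : G) ∈ V →
        q (χ x) * q v * (q (χ x))⁻¹ = q v := by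
      intro x hx v hv
      rw [← hαv x ⟨q v, (hVmem v).1 hv⟩, (hker x).1 hx]
      rfl
    have hfix' : ∀ d : D₁, (orderOf d).Coprime p → ∀ v ∈ V, ι d * v * (ι d)⁻¹ = v := by
      intro d hd v hv
      rw [← Subgroup.orderOf_coe] at hd
      refine commute_of_coprime (hd.coprime_dvd_left (orderOf_map_dvd ι _))
        (hP.to_le hB) (hfix _ hd) ?_
      obtain ⟨k, hk⟩ := hpow₁ d d.2
      have hdker : (d : X) ∈ ρ.ker := by
        obtain ⟨t, ht⟩ := exists_pow_eq_self_of_coprime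
          (x := (d : X)) (n := p ^ k) (hd.pow_right k).symm
        rw [← ht]
        exact pow_mem hk t
      have h1 := hkerV d hdker ⟨v, hPY (hVP hv)⟩ hv
      rw [← map_inv, ← map_mul, ← map_mul] at h1
      have h2 : ((χ (d : X) * ⟨v, hPY (hVP hv)⟩ * (χ (d : X))⁻¹ : Y))⁻¹ * ⟨v, hPY (hVP hv)⟩ ∈
          B.subgroupOf Y := QuotientGroup.eq.1 h1
      have h3 : (ι d * v * (ι d)⁻¹)⁻¹ * v ∈ B := h2
      simpa [mul_assoc] using inv_mem h3
    have hcard : Nat.card B < Nat.card V :=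
      lt_of_le_of_ne (Subgroup.card_le_of_le hBV) fun he =>
        hVlt.ne (Subgroup.eq_of_le_of_card_ge hBV he.ge)
    obtain ⟨D₂, hD₂, hg₂, hpow₂⟩ := ih (ι.comp D₁.subtype) V hVP (by omega) (hPY.trans hYV)
      (fun d => hXP d) (fun d => hYV (χ (d : X)).2) hfix' ⟨g, hg₁⟩ (fun v hv => hBV (hq v hv))
    -- combine
    set ξ : X →* Y ⧸ B.subgroupOf Y := q.comp χ with hξ
    set C := (Subgroup.centralizer (((P.subgroupOf Y).map q : Subgroup _) :
      Set (Y ⧸ B.subgroupOf Y))).comap ξ with hC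
    haveI : C.Normal := by
      have : (Subgroup.centralizer (((P.subgroupOf Y).map q : Subgroup _) :
        Set (Y ⧸ B.subgroupOf Y))).Normal := inferInstance
      exact this.comap ξ
    have hCmem : ∀ x : X, x ∈ C → ∀ v ∈ P, ι x * v * (ι x)⁻¹ * v⁻¹ ∈ B := by
      intro x hx v hv
      have h1 := Subgroup.mem_centralizer_iff.1 (Subgroup.mem_comap.1 hx) (q ⟨v, hPY hv⟩)
        ⟨⟨v, hPY hv⟩, hv, rfl⟩
      have h2 : q (χ x * ⟨v, hPY hv⟩ * (χ x)⁻¹ * (⟨v, hPY hv⟩ : Y)⁻¹) = 1 := by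
        rw [map_mul, map_mul, map_mul, map_inv, map_inv, show q (χ x) = ξ x from rfl, ← h1]
        group
      exact (QuotientGroup.eq_one_iff (N := B.subgroupOf Y) _).1 h2
    set E₂ := (D₂.map D₁.subtype).map (QuotientGroup.mk' C) with hE₂
    have hE₂p : IsPGroup p E₂ := by
      rintro ⟨_, _, ⟨d, hd, rfl⟩, rfl⟩
      obtain ⟨i, hi⟩ := hpow₁ d d.2
      obtain ⟨j, hj⟩ := hpow₂ d hd
      refine ⟨i + j + 1, Subtype.ext ?_⟩
      rw [SubmonoidClass.coe_pow, OneMemClass.coe_one, ← map_pow]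
      refine (QuotientGroup.eq_one_iff _).2 ?_
      set f := (d : X) ^ p ^ (i + j) with hf
      have hf1 : f ∈ ρ.ker := by rw [hf, pow_add, pow_mul]; exact pow_mem hi _
      have hf2 : ∀ v ∈ P, ι f * v * (ι f)⁻¹ * v⁻¹ ∈ V := by
        intro v hv
        have hXV : ι f ∈ Subgroup.normalizer (V : Set G) := hYV (χ f).2
        have hgen : ∀ t : ℕ, ∀ a : G, a ∈ Subgroup.normalizer (V : Set G) →
            a * v * a⁻¹ * v⁻¹ ∈ V → a ∈ Subgroup.normalizer (P : Set G) →
            a ^ t * v * (a ^ t)⁻¹ * v⁻¹ ∈ V := by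
          intro t a ha hav _
          induction t with
          | zero => simp
          | succ t iht =>
            have := mul_mem ((Subgroup.mem_normalizer_iff.1 ha _).1 iht) hav
            rw [show a ^ (t + 1) * v * (a ^ (t + 1))⁻¹ * v⁻¹ =
              a * (a ^ t * v * (a ^ t)⁻¹ * v⁻¹) * a⁻¹ * (a * v * a⁻¹ * v⁻¹) by
                rw [pow_succ']; group]
            exact this
        have h := hgen (p ^ i) (ι ((d : X) ^ p ^ j)) (hYV (χ _).2) (hj v hv) (hXP _)
        rwa [← map_pow, ← pow_mul, ← pow_add, add_comm j i] at h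
      rw [Subgroup.coe_subtype, pow_succ, pow_mul, ← hf, Subgroup.mem_comap, Subgroup.mem_centralizer_iff]
      rintro _ ⟨v, hv, rfl⟩
      set cc := χ f * v * (χ f)⁻¹ * v⁻¹ with hcc
      have hccZ : (cc : G) ∈ V := hf2 v hv
      have hxv : q (χ f) * q v * (q (χ f))⁻¹ = q cc * q v := by
        rw [← map_inv, ← map_mul, ← map_mul, ← map_mul, hcc, inv_mul_cancel_right]
      have hxc : q (χ f) * q cc = q cc * q (χ f) :=
        mul_inv_eq_iff_eq_mul.1 (hkerV f hf1 cc hccZ)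
      have := Quadratic.pow_conj_eq hxv hxc p
      rw [((hVmem cc).1 hccZ).2.2, one_mul, mul_inv_eq_iff_eq_mul] at this
      rw [map_pow]
      exact this.symm
    have hE₂le : E₂ ≤ (Cfsg.pCore p (X ⧸ C)) := by
      set D₁' := D₁.map (QuotientGroup.mk' C) with hD₁'
      haveI : D₁'.Normal := hD₁.map _ (QuotientGroup.mk'_surjective C)
      have hle : E₂ ≤ D₁' := Subgroup.map_mono (Subgroup.map_subtype_le _)
      have hn : (E₂.subgroupOf D₁').Normal := by
        refine (Subgroup.normal_subgroupOf_iff_le_normalizer hle).2 ?_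
        refine le_trans ?_ (Subgroup.le_normalizer_map _)
        refine Subgroup.map_mono fun d hd => ?_
        exact Subgroup.le_normalizer_map D₁.subtype
          ⟨⟨d, hd⟩, by rw [Subgroup.normalizer_eq_top]; trivial, rfl⟩
      haveI := hn
      have h1 : (E₂.subgroupOf D₁') ≤ Cfsg.pCore p D₁' :=
        Cores.le_pCore (hE₂p.of_equiv (Subgroup.subgroupOfEquivOfLe hle).symm)
      have h2 := Subgroup.map_mono (f := D₁'.subtype) h1
      rw [Subgroup.map_subgroupOf_eq_of_le hle, Cores.map_subtype_pCore] at h2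
      exact h2.trans inf_le_right
    obtain ⟨D, hD, hgD, hDj⟩ := (Quadratic.inPRad_iff C g).2
      (hE₂le ⟨g, ⟨⟨g, hg₁⟩, hg₂, rfl⟩, rfl⟩)
    refine ⟨D, hD, hgD, fun d hd => ?_⟩
    obtain ⟨k, hk⟩ := hDj d hd
    exact ⟨k, hCmem _ hk⟩

/-- Stability passes to quotients by `p'`-groups. -/
theorem stable_quotient_prime' {G : Type u} [Group G] [Finite G] (hG : Stable p G) (M : Subgroup G)
    [M.Normal] (hM : ¬ p ∣ Nat.card M) : Stable p (G ⧸ M) := by
  intro Q hQ g hg hq
  obtain ⟨P, hP, rfl⟩ := Elem70.EqualOrder.exists_pSubgroup_map (QuotientGroup.mk' M)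
    (QuotientGroup.mk'_surjective M) hQ
  set f := QuotientGroup.mk' M with hf
  obtain ⟨y, hy, hyg⟩ := ConjFunctor.Steps.exists_lift_normalizer M hP hM hg
  have hPM : ∀ v ∈ P, f v = 1 → v = 1 := fun v hv h =>
    Subgroup.disjoint_def.1 (Transfer.PResidual.disjoint_of_not_dvd hM hP)
      ((QuotientGroup.eq_one_iff v).1 h) hv
  have hq' : Quad P y := by
    intro v hv
    refine hPM _ ?_ ?_
    · have hc : ∀ v ∈ P, ⁅v, y⁆ ∈ P := fun v hv => by
        rw [commutatorElement_def, show v * y * v⁻¹ * y⁻¹ = v * (y * v⁻¹ * y⁻¹) by group]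
        exact mul_mem hv ((Subgroup.mem_normalizer_iff.1 hy _).1 (inv_mem hv))
      exact hc _ (hc v hv)
    · rw [map_commutatorElement, map_commutatorElement, hyg]
      exact hq _ ⟨v, hv, rfl⟩
  obtain ⟨D, hD, hyD, hDj⟩ := hG P hP y hy hq'
  let τ : Subgroup.normalizer (P : Set G) →* Subgroup.normalizer (P.map f : Set (G ⧸ M)) :=
    (f.comp (Subgroup.normalizer (P : Set G)).subtype).codRestrict _
      fun x => Subgroup.le_normalizer_map f ⟨x, x.2, rfl⟩
  have hτ : Function.Surjective τ := fun z => by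
    obtain ⟨w, hw, hwz⟩ := ConjFunctor.Steps.exists_lift_normalizer M hP hM z.2
    exact ⟨⟨w, hw⟩, Subtype.ext hwz⟩
  refine ⟨D.map τ, hD.map τ hτ, ⟨⟨y, hy⟩, hyD, Subtype.ext hyg⟩, ?_⟩
  rintro _ ⟨d, hd, rfl⟩
  obtain ⟨k, hk⟩ := hDj d hd
  refine ⟨k, ?_⟩
  rw [← map_pow, Subgroup.mem_subgroupOf, Subgroup.mem_centralizer_iff]
  rintro _ ⟨v, hv, rfl⟩
  show f v * f ((d ^ p ^ k : Subgroup.normalizer (P : Set G)) : G) = f _ * f v
  rw [← map_mul, ← map_mul]
  exact congrArg f (Subgroup.mem_centralizer_iff.1 hk v hv)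

/-- Stability passes to quotients by `p`-groups centralised by the `p'`-elements. -/
theorem stable_quotient_central {G : Type u} [Group G] [Finite G] (hp2 : p ≠ 2) (hG : Stable p G)
    (B : Subgroup G) [B.Normal] (hB : IsPGroup p B)
    (hfix : ∀ x : G, (orderOf x).Coprime p → ∀ b ∈ B, x * b * x⁻¹ = b) : Stable p (G ⧸ B) := by
  intro Q hQ g hg hq
  set f := QuotientGroup.mk' B with hf
  have hfs := QuotientGroup.mk'_surjective B
  set P := Q.comap f with hP
  have hPp : IsPGroup p P := by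
    refine hQ.comap_of_ker_isPGroup f ?_
    rwa [hf, QuotientGroup.ker_mk']
  have hBP : B ≤ P := fun b hb => by
    rw [hP, Subgroup.mem_comap, show f b = 1 from (QuotientGroup.eq_one_iff b).2 hb]
    exact one_mem Q
  set N := Subgroup.normalizer (Q : Set (G ⧸ B)) with hN
  have hXP : ∀ x : N.comap f, (x : G) ∈ Subgroup.normalizer (P : Set G) := by
    intro x
    rw [Subgroup.mem_normalizer_iff]
    intro v
    rw [hP, Subgroup.mem_comap, Subgroup.mem_comap, map_mul, map_mul, map_inv]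
    exact Subgroup.mem_normalizer_iff.1 x.2 (f v)
  obtain ⟨y, rfl⟩ := hfs g
  obtain ⟨D, hD, hyD, hDj⟩ := inPRad_section hp2 hG hPp (Nat.card P + 1) (N.comap f).subtype B hBP
    (by omega) (by rw [Subgroup.normalizer_eq_top]; exact le_top) hXP
    (fun x => by rw [Subgroup.normalizer_eq_top]; trivial)
    (fun x hx => hfix x (by rwa [Subgroup.orderOf_coe])) ⟨y, hg⟩ (fun v hv => by
      refine (QuotientGroup.eq_one_iff _).1 ?_
      show f ⁅⁅v, y⁆, y⁆ = 1
      rw [map_commutatorElement, map_commutatorElement]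
      exact hq _ hv)
  let τ : N.comap f →* N := (f.comp (N.comap f).subtype).codRestrict _ fun x => x.2
  have hτ : Function.Surjective τ := fun z => by
    obtain ⟨w, hw⟩ := hfs z
    exact ⟨⟨w, by rw [Subgroup.mem_comap, hw]; exact z.2⟩, Subtype.ext hw⟩
  refine ⟨D.map τ, hD.map τ hτ, ⟨⟨y, hg⟩, hyD, rfl⟩, ?_⟩
  rintro _ ⟨d, hd, rfl⟩
  obtain ⟨k, hk⟩ := hDj d hd
  refine ⟨k, ?_⟩
  rw [← map_pow, Subgroup.mem_subgroupOf, Subgroup.mem_centralizer_iff]
  intro w hw
  obtain ⟨v, rfl⟩ := hfs w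
  have h1 : f ((d ^ p ^ k : N.comap f) * v * ((d ^ p ^ k : N.comap f) : G)⁻¹ * v⁻¹) = 1 :=
    (QuotientGroup.eq_one_iff _).2 (hk v hw)
  rw [map_mul, map_mul, map_mul, map_inv, map_inv, mul_inv_eq_one, mul_inv_eq_iff_eq_mul] at h1
  exact h1.symm

end Cfsg.Agent.Lib.ZJ
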